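import Mathlib.Algebra.Polynomial.Laurent
import Mathlib.LinearAlgebra.FreeModule.PID
import Mathlib.LinearAlgebra.Matrix.NonsingularInverse
import Mathlib.LinearAlgebra.Matrix.ToLinearEquiv
import Mathlib.LinearAlgebra.Matrix.ToLin
import Mathlib.LinearAlgebra.Matrix.FiniteDimensional
import Mathlib.RingTheory.LocalRing.ResidueField.Basic
import Mathlib.Data.Matrix.ColumnRowPartitioned
import Mathlib.LinearAlgebra.FiniteDimensional.Lemmas
import Mathlib.RingTheory.Nakayama
import Mathlib.RingTheory.AdjoinRoot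
import Mathlib.RingTheory.Polynomial.Basic

/-! Vector bundles on the projective line over a ring as pairs of idempotent matrices glued over
Laurent polynomials. -/

universe u v

namespace Groth.Agent.Horrocks

open Polynomial Matrix LaurentPolynomial

variable {A : Type u} [CommRing A] {B : Type v} [CommRing B]

variable (A) in
/-- The inclusion of the chart at infinity: `s ↦ t⁻¹`. -/
noncomputable def negL : A[X] →+* A[T;T⁻¹] :=
  ((LaurentPolynomial.invert (R := A)).toAlgHom.toRingHom).comp Polynomial.toLaurent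

theorem negL_apply (p : A[X]) : negL A p = LaurentPolynomial.invert (toLaurent p) := rfl

theorem invert_invert (x : A[T;T⁻¹]) : LaurentPolynomial.invert (LaurentPolynomial.invert x) = x :=
  LaurentPolynomial.involutive_invert x

theorem invert_negL (p : A[X]) : LaurentPolynomial.invert (negL A p) = toLaurent p :=
  invert_invert _

theorem negL_injective : Function.Injective (negL A) :=
  (LaurentPolynomial.invert (R := A)).injective.comp Polynomial.toLaurent_injective

theorem negL_C (a : A) : negL A (Polynomial.C a) = LaurentPolynomial.C a := by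
  rw [negL_apply, Polynomial.toLaurent_C, invert_C]

theorem negL_X : negL A Polynomial.X = T (-1) := by
  rw [negL_apply, Polynomial.toLaurent_X, invert_T]

theorem negL_X_pow (n : ℕ) : negL A (Polynomial.X ^ n) = T (-(n : ℤ)) := by
  rw [map_pow, negL_X, T_pow]; simp

variable (A) in
/-- `t` as a unit. -/
noncomputable def tUnit : (A[T;T⁻¹])ˣ :=
  ⟨T 1, T (-1), by rw [← T_add]; simp, by rw [← T_add]; simp⟩

/-- Change of coefficients. -/
noncomputable def lmap (f : A →+* B) : A[T;T⁻¹] →+* B[T;T⁻¹] :=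
  LaurentPolynomial.eval₂ (LaurentPolynomial.C.comp f) (tUnit B)

theorem lmap_C (f : A →+* B) (a : A) : lmap f (LaurentPolynomial.C a) = LaurentPolynomial.C (f a) :=
  eval₂_C _ _ a

theorem lmap_T (f : A →+* B) (n : ℤ) : lmap f (T n) = T n := by
  obtain ⟨k, rfl | rfl⟩ := n.eq_nat_or_neg
  · rw [lmap, eval₂_T_n]
    show (T 1 : B[T;T⁻¹]) ^ k = _
    rw [T_pow]; simp
  · rw [lmap, eval₂_T_neg_n]
    show (T (-1) : B[T;T⁻¹]) ^ k = _
    rw [T_pow]; simp

theorem lmap_toLaurent (f : A →+* B) (p : A[X]) : lmap f (toLaurent p) = toLaurent (p.map f) := by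
  induction p using Polynomial.induction_on' with
  | add p q hp hq => simp [hp, hq]
  | monomial n a =>
    rw [Polynomial.map_monomial, ← Polynomial.C_mul_X_pow_eq_monomial, ← Polynomial.C_mul_X_pow_eq_monomial,
      map_mul, map_mul, map_mul, Polynomial.toLaurent_C, Polynomial.toLaurent_C, Polynomial.toLaurent_X_pow,
      Polynomial.toLaurent_X_pow, lmap_C, lmap_T]

theorem lmap_invert (f : A →+* B) (x : A[T;T⁻¹]) :
    lmap f (LaurentPolynomial.invert x) = LaurentPolynomial.invert (lmap f x) := by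
  induction x using LaurentPolynomial.induction_on' with
  | add x y hx hy => simp [hx, hy]
  | C_mul_T n a => simp [lmap_C, lmap_T]

theorem lmap_negL (f : A →+* B) (p : A[X]) : lmap f (negL A p) = negL B (p.map f) := by
  rw [negL_apply, negL_apply, lmap_invert, lmap_toLaurent]

theorem lmap_surjective (f : A →+* B) (hf : Function.Surjective f) : Function.Surjective (lmap f) := by
  intro x
  induction x using LaurentPolynomial.induction_on' with
  | add x y hx hy =>
    obtain ⟨a, rfl⟩ := hx
    obtain ⟨b, rfl⟩ := hy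
    exact ⟨a + b, map_add _ _ _⟩
  | C_mul_T n a =>
    obtain ⟨a, rfl⟩ := hf a
    exact ⟨LaurentPolynomial.C a * T n, by rw [map_mul, lmap_C, lmap_T]⟩

section Mat

variable {ι κ μ : Type*}

/-- Matrices on the chart `t`. -/
noncomputable abbrev posM (M : Matrix ι κ A[X]) : Matrix ι κ A[T;T⁻¹] := M.map toLaurent

/-- Matrices on the chart `s`. -/
noncomputable abbrev negM (M : Matrix ι κ A[X]) : Matrix ι κ A[T;T⁻¹] := M.map (negL A)

theorem posM_mul [Fintype κ] (M : Matrix ι κ A[X]) (N : Matrix κ μ A[X]) : posM (M * N) = posM M * posM N :=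
  Matrix.map_mul

theorem negM_mul [Fintype κ] (M : Matrix ι κ A[X]) (N : Matrix κ μ A[X]) : negM (M * N) = negM M * negM N :=
  Matrix.map_mul

theorem posM_injective : Function.Injective (posM : Matrix ι κ A[X] → Matrix ι κ A[T;T⁻¹]) :=
  Matrix.map_injective Polynomial.toLaurent_injective

theorem negM_injective : Function.Injective (negM : Matrix ι κ A[X] → Matrix ι κ A[T;T⁻¹]) :=
  Matrix.map_injective negL_injective

theorem map_posM (f : A →+* B) (M : Matrix ι κ A[X]) :
    (posM M).map (lmap f) = posM (M.map (Polynomial.mapRingHom f)) :=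
  Matrix.ext fun i j => lmap_toLaurent f (M i j)

theorem map_negM (f : A →+* B) (M : Matrix ι κ A[X]) :
    (negM M).map (lmap f) = negM (M.map (Polynomial.mapRingHom f)) :=
  Matrix.ext fun i j => lmap_negL f (M i j)

theorem exists_nat_forall_mem {α : Type*} [Finite α] {P : α → ℕ → Prop} (h : ∀ a, ∃ k, ∀ m ≥ k, P a m) :
    ∃ k, ∀ m ≥ k, ∀ a, P a m := by
  choose k hk using h
  obtain ⟨K, hK⟩ := Finite.exists_le k
  exact ⟨K, fun m hm a => hk a m ((hK a).trans hm)⟩

theorem exists_pos_entry (x : A[T;T⁻¹]) : ∃ k : ℕ, ∀ m ≥ k, ∃ p : A[X], toLaurent p = T (m : ℤ) * x := by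
  obtain ⟨k, p, hp⟩ := x.exists_T_pow
  refine ⟨k, fun m hm => ⟨p * Polynomial.X ^ (m - k), ?_⟩⟩
  rw [map_mul, hp, Polynomial.toLaurent_X_pow, mul_assoc, ← T_add, mul_comm]
  congr 2
  omega

theorem exists_posM [Finite ι] [Finite κ] (M : Matrix ι κ A[T;T⁻¹]) :
    ∃ k : ℕ, ∀ m ≥ k, ∃ P : Matrix ι κ A[X], posM P = (T (m : ℤ) : A[T;T⁻¹]) • M := by
  obtain ⟨k, hk⟩ := exists_nat_forall_mem (α := ι × κ)
    (P := fun q m => ∃ p : A[X], toLaurent p = T (m : ℤ) * M q.1 q.2) (fun q => exists_pos_entry _)
  refine ⟨k, fun m hm => ?_⟩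
  choose p hp using hk m hm
  exact ⟨Matrix.of fun i j => p (i, j), Matrix.ext fun i j => hp (i, j)⟩

theorem exists_negM [Finite ι] [Finite κ] (M : Matrix ι κ A[T;T⁻¹]) :
    ∃ k : ℕ, ∀ m ≥ k, ∃ P : Matrix ι κ A[X], negM P = (T (-(m : ℤ)) : A[T;T⁻¹]) • M := by
  obtain ⟨k, hk⟩ := exists_posM (M.map (LaurentPolynomial.invert (R := A)))
  refine ⟨k, fun m hm => ?_⟩
  obtain ⟨P, hP⟩ := hk m hm
  refine ⟨P, Matrix.ext fun i j => ?_⟩
  have := congrArg (LaurentPolynomial.invert (R := A)) (congrFun (congrFun hP i) j)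
  simpa [negL_apply, invert_invert] using this

end Mat

/-- A vector bundle on the projective line with idempotent matrices as charts. -/
structure Bundle (A : Type u) [CommRing A] (ι : Type) [Fintype ι] where
  /-- the chart `t` -/
  e : Matrix ι ι A[X]
  /-- the chart `s` -/
  ε : Matrix ι ι A[X]
  /-- from the chart `s` to the chart `t` -/
  u : Matrix ι ι A[T;T⁻¹]
  /-- from the chart `t` to the chart `s` -/
  v : Matrix ι ι A[T;T⁻¹]
  he : e * e = e
  hε : ε * ε = ε
  huv : u * v = posM e
  hvu : v * u = negM ε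
  hu : posM e * u = u
  hv : negM ε * v = v

namespace Bundle

variable {ι : Type} [Fintype ι] (E : Bundle A ι)

theorem v_e : E.v * posM E.e = E.v := by rw [← E.huv, ← Matrix.mul_assoc, E.hvu, E.hv]

theorem u_ε : E.u * negM E.ε = E.u := by rw [← E.hvu, ← Matrix.mul_assoc, E.huv, E.hu]

/-- Change of coefficients. -/
noncomputable def map (f : A →+* B) : Bundle B ι where
  e := E.e.map (Polynomial.mapRingHom f)
  ε := E.ε.map (Polynomial.mapRingHom f)
  u := E.u.map (lmap f)
  v := E.v.map (lmap f)
  he := by rw [← Matrix.map_mul, E.he]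
  hε := by rw [← Matrix.map_mul, E.hε]
  huv := by rw [← Matrix.map_mul, E.huv, map_posM]
  hvu := by rw [← Matrix.map_mul, E.hvu, map_negM]
  hu := by rw [← map_posM, ← Matrix.map_mul, E.hu]
  hv := by rw [← map_negM, ← Matrix.map_mul, E.hv]

/-- The twist. -/
noncomputable def twist (c : ℤ) : Bundle A ι where
  e := E.e
  ε := E.ε
  u := (T c : A[T;T⁻¹]) • E.u
  v := (T (-c) : A[T;T⁻¹]) • E.v
  he := E.he
  hε := E.hε
  huv := by rw [Matrix.smul_mul, Matrix.mul_smul, smul_smul, ← T_add, add_neg_cancel, T_zero, one_smul, E.huv]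
  hvu := by rw [Matrix.smul_mul, Matrix.mul_smul, smul_smul, ← T_add, neg_add_cancel, T_zero, one_smul, E.hvu]
  hu := by rw [Matrix.mul_smul, E.hu]
  hv := by rw [Matrix.mul_smul, E.hv]

/-- Interchanging the two charts. -/
noncomputable def swap : Bundle A ι where
  e := E.ε
  ε := E.e
  u := E.v.map (LaurentPolynomial.invert (R := A))
  v := E.u.map (LaurentPolynomial.invert (R := A))
  he := E.hε
  hε := E.he
  huv := by rw [← Matrix.map_mul, E.hvu]; exact Matrix.ext fun i j => invert_negL _
  hvu := by rw [← Matrix.map_mul, E.huv]; rfl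
  hu := by
    rw [show posM E.ε = (negM E.ε).map (LaurentPolynomial.invert (R := A)) from
      Matrix.ext fun i j => (invert_negL _).symm, ← Matrix.map_mul, E.hv]
  hv := by
    rw [show negM E.e = (posM E.e).map (LaurentPolynomial.invert (R := A)) from rfl, ← Matrix.map_mul, E.hu]

end Bundle

end Groth.Agent.Horrocks
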