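import Groth.Agent.Horrocks.Patch
import Mathlib.RingTheory.Coprime.Lemmas

/-! Idempotents over a ring which become equivalent after inverting polynomials are equivalent. -/

universe u

namespace Groth.Agent.Horrocks

open Polynomial Matrix LaurentPolynomial

variable {A : Type u} [CommRing A] {ι : Type} [Fintype ι] [DecidableEq ι]

theorem MvN.of_conj {κ : Type} [Fintype κ] {R : Type u} [CommRing R] (j : Matrix κ ι R) (k : Matrix ι κ R)
    (hkj : k * j = 1) {p q : Matrix ι ι R} (hp : p * p = p) (hq : q * q = q)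
    (h : MvN (j * p * k) (j * q * k)) : MvN p q := by
  obtain ⟨Y, Z, hYZ, hZY⟩ := h
  have hpk : k * (j * p * k) * j = p := by
    rw [← Matrix.mul_assoc, ← Matrix.mul_assoc, hkj, Matrix.one_mul, Matrix.mul_assoc, hkj, Matrix.mul_one]
  have hqk : k * (j * q * k) * j = q := by
    rw [← Matrix.mul_assoc, ← Matrix.mul_assoc, hkj, Matrix.one_mul, Matrix.mul_assoc, hkj, Matrix.mul_one]
  have hP : j * p * k * (j * p * k) = j * p * k := by
    calc _ = j * p * (k * j) * p * k := by simp only [Matrix.mul_assoc]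
      _ = _ := by rw [hkj, Matrix.mul_one, Matrix.mul_assoc j p p, hp]
  have hQ : j * q * k * (j * q * k) = j * q * k := by
    calc _ = j * q * (k * j) * q * k := by simp only [Matrix.mul_assoc]
      _ = _ := by rw [hkj, Matrix.mul_one, Matrix.mul_assoc j q q, hq]
  refine ⟨p * k * Y * j * q, q * k * Z * j * p, ?_, ?_⟩
  · calc _ = p * k * Y * (j * (q * q) * k) * Z * j * p := by simp only [Matrix.mul_assoc]
      _ = p * k * (Y * Z * (Y * Z)) * j * p := by rw [hq, ← hZY]; simp only [Matrix.mul_assoc]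
      _ = p * (k * (j * p * k) * j) * p := by rw [hYZ, hP]; simp only [Matrix.mul_assoc]
      _ = p := by rw [hpk, hp, hp]
  · calc _ = q * k * Z * (j * (p * p) * k) * Y * j * q := by simp only [Matrix.mul_assoc]
      _ = q * k * (Z * Y * (Z * Y)) * j * q := by rw [hp, ← hYZ]; simp only [Matrix.mul_assoc]
      _ = q * (k * (j * q * k) * j) * q := by rw [hZY, hQ]; simp only [Matrix.mul_assoc]
      _ = q := by rw [hqk, hq, hq]

theorem MvN.of_rect {κ : Type} [Fintype κ] {R : Type u} [CommRing R] (j : Matrix κ ι R) (k : Matrix ι κ R)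
    (hkj : k * j = 1) (x : Matrix κ ι R) (y : Matrix ι κ R) : MvN (x * y) (j * (y * x) * k) :=
  ⟨x * k, j * y, by rw [Matrix.mul_assoc x k, ← Matrix.mul_assoc k, hkj, Matrix.one_mul],
    by simp only [Matrix.mul_assoc]⟩

/-- The inclusion of the first block. -/
def inlM (R : Type u) [CommRing R] (ι : Type) [DecidableEq ι] : Matrix (ι ⊕ ι) ι R := Matrix.fromRows 1 0

/-- The projection to the first block. -/
def fstM (R : Type u) [CommRing R] (ι : Type) [DecidableEq ι] : Matrix ι (ι ⊕ ι) R := Matrix.fromCols 1 0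

theorem fstM_mul_inlM (R : Type u) [CommRing R] : fstM R ι * inlM R ι = 1 := by
  simp [fstM, inlM, Matrix.fromCols_mul_fromRows]

theorem map_inlM {R S : Type u} [CommRing R] [CommRing S] (f : R →+* S) : (inlM R ι).map f = inlM S ι := by
  ext x y
  rcases x with x | x <;> simp [inlM, Matrix.one_apply, apply_ite f]

theorem map_fstM {R S : Type u} [CommRing R] [CommRing S] (f : R →+* S) : (fstM R ι).map f = fstM S ι := by
  ext x y
  rcases y with y | y <;> simp [fstM, Matrix.one_apply, apply_ite f]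

theorem map_smul_matrix {R S : Type u} [CommRing R] [CommRing S] (f : R →+* S) {κ μ : Type} (a : R)
    (M : Matrix κ μ R) : (a • M).map f = f a • M.map f :=
  Matrix.ext fun i j => map_mul f a (M i j)

theorem mvn_of_extended {κ : Type} [Fintype κ] [DecidableEq κ] (E : Bundle A κ) (a : A) :
    MvN (E.ε.map (Polynomial.evalRingHom a)) (E.ε.map (Polynomial.evalRingHom 0)) := by
  have h := (E.swap.mvn_eval_zero).map (Polynomial.evalRingHom a)
  rw [map_map_hom (E.swap.e.map _) Polynomial.C, show (Polynomial.evalRingHom a).comp Polynomial.C = RingHom.id A from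
    RingHom.ext fun x => by simp] at h
  exact h

theorem mvn_core (p q : Matrix ι ι A) (hp : p * p = p) (hq : q * q = q) (φ ψ : Matrix ι ι A[X]) (g : A[X])
    (hg : g.coeff 0 = 1) (c : ℕ) (hpφ : p.map Polynomial.C * φ = φ) (hφq : φ * q.map Polynomial.C = φ)
    (hqψ : q.map Polynomial.C * ψ = ψ) (hψp : ψ * p.map Polynomial.C = ψ)
    (hφψ : φ * ψ = (Polynomial.X ^ c * g) • p.map Polynomial.C)
    (hψφ : ψ * φ = (Polynomial.X ^ c * g) • q.map Polynomial.C) : MvN p q := by
  obtain ⟨a', b', hab⟩ : IsCoprime ((Polynomial.X : A[X]) ^ c) g := by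
    refine IsCoprime.pow_left (?_ : IsCoprime (Polynomial.X : A[X]) g)
    obtain ⟨t, ht⟩ := Polynomial.X_dvd_sub_C (p := g)
    rw [hg, Polynomial.C_1] at ht
    exact ⟨-t, 1, by linear_combination ht⟩
  obtain ⟨P, hP⟩ : ∃ P, P = p.map (Polynomial.C : A →+* A[X]) := ⟨_, rfl⟩
  obtain ⟨Q, hQ⟩ : ∃ Q, Q = q.map (Polynomial.C : A →+* A[X]) := ⟨_, rfl⟩
  have hPP : P * P = P := by rw [hP, ← Matrix.map_mul, hp]
  have hQQ : Q * Q = Q := by rw [hQ, ← Matrix.map_mul, hq]
  rw [← hP] at hpφ hψp hφψ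
  rw [← hQ] at hφq hqψ hψφ
  obtain ⟨ε, hε⟩ : ∃ ε, ε = Matrix.fromBlocks ((a' * Polynomial.X ^ c) • P) (a' • φ) (b' • ψ) ((b' * g) • Q) :=
    ⟨_, rfl⟩
  let i₀ : Matrix (ι ⊕ ι) ι A[X] := Matrix.fromRows ((a' * Polynomial.X ^ c) • P) (b' • ψ)
  let r₀ : Matrix ι (ι ⊕ ι) A[X] := Matrix.fromCols ((Polynomial.X ^ c : A[X]) • P) φ
  have hri : r₀ * i₀ = (Polynomial.X ^ c : A[X]) • P := by
    show Matrix.fromCols _ _ * Matrix.fromRows _ _ = _
    rw [Matrix.fromCols_mul_fromRows, Matrix.mul_smul, Matrix.smul_mul, Matrix.mul_smul, hPP, hφψ, smul_smul, smul_smul,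
      ← add_smul]
    congr 1
    linear_combination (Polynomial.X ^ c : A[X]) * hab
  have hir : i₀ * r₀ = (Polynomial.X ^ c : A[X]) • ε := by
    show Matrix.fromRows _ _ * Matrix.fromCols _ _ = _
    rw [Matrix.fromRows_mul_fromCols, hε, Matrix.fromBlocks_smul]
    simp only [Matrix.mul_smul, Matrix.smul_mul, smul_smul, hPP, hpφ, hψp, hψφ]
    congr 2 <;> ring
  have hεi : ε * i₀ = i₀ := by
    show ε * Matrix.fromRows _ _ = Matrix.fromRows _ _
    rw [hε, Matrix.fromBlocks_mul_fromRows]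
    simp only [Matrix.mul_smul, Matrix.smul_mul, smul_smul, hPP, hqψ, hφψ, hψp, ← add_smul]
    congr 2
    · linear_combination (a' * Polynomial.X ^ c) * hab
    · linear_combination b' * hab
  have hεε : ε * ε = ε := by
    refine Matrix.ext fun x y => ?_
    have h : ((Polynomial.X ^ c : A[X]) • (ε * ε)) = (Polynomial.X ^ c : A[X]) • ε := by
      rw [← Matrix.mul_smul, ← hir, ← Matrix.mul_assoc, hεi]
    have h' := congrFun (congrFun h x) y
    simp only [Matrix.smul_apply, smul_eq_mul] at h'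
    exact (Polynomial.monic_X_pow c).isRegular.left h'
  obtain ⟨j, hj⟩ : ∃ j, j = inlM A[X] ι := ⟨_, rfl⟩
  obtain ⟨k, hk⟩ : ∃ k, k = fstM A[X] ι := ⟨_, rfl⟩
  have hkj : k * j = 1 := by rw [hk, hj, fstM_mul_inlM]
  obtain ⟨D, hD⟩ : ∃ D, D = j * P * k := ⟨_, rfl⟩
  have hDD : D * D = D := by
    calc D * D = j * P * (k * j) * P * k := by rw [hD]; simp only [Matrix.mul_assoc]
      _ = D := by rw [hkj, Matrix.mul_one, Matrix.mul_assoc j P P, hPP, hD]
  have hposneg : posM D = negM D := by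
    have e1 : posM P = negM P := Matrix.ext fun x y => by
      show toLaurent (P x y) = negL A (P x y)
      rw [hP, Matrix.map_apply, negL_C, Polynomial.toLaurent_C]
    have e2 : posM j = negM j := by
      rw [hj]; exact ((map_inlM (ι := ι) (Polynomial.toLaurent (R := A))).trans (map_inlM (negL A)).symm)
    have e3 : posM k = negM k := by
      rw [hk]; exact ((map_fstM (ι := ι) (Polynomial.toLaurent (R := A))).trans (map_fstM (negL A)).symm)
    rw [hD, posM_mul, posM_mul, negM_mul, negM_mul, e1, e2, e3]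
  have hTc : (T (c : ℤ) : A[T;T⁻¹]) * negL A (Polynomial.X ^ c) = 1 := by
    rw [negL_X_pow, ← T_add, add_neg_cancel, T_zero]
  let E : Bundle A (ι ⊕ ι) := {
    e := D
    ε := ε
    u := (T (c : ℤ) : A[T;T⁻¹]) • negM (j * r₀)
    v := negM (i₀ * k)
    he := hDD
    hε := hεε
    huv := by
      rw [Matrix.smul_mul, ← negM_mul, show j * r₀ * (i₀ * k) = j * (r₀ * i₀) * k by simp only [Matrix.mul_assoc], hri,
        Matrix.mul_smul, Matrix.smul_mul, ← hD, negM, map_smul_matrix, smul_smul, hTc, one_smul, hposneg]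
    hvu := by
      rw [Matrix.mul_smul, ← negM_mul, show i₀ * k * (j * r₀) = i₀ * (k * j) * r₀ by simp only [Matrix.mul_assoc], hkj,
        Matrix.mul_one, hir, negM, map_smul_matrix, smul_smul, hTc, one_smul]
    hu := by
      rw [Matrix.mul_smul, hposneg, ← negM_mul, hD,
        show j * P * k * (j * r₀) = j * (P * (k * j) * r₀) by simp only [Matrix.mul_assoc], hkj, Matrix.mul_one]
      congr 3
      show P * Matrix.fromCols _ _ = Matrix.fromCols _ _
      rw [Matrix.mul_fromCols, Matrix.mul_smul, hPP, hpφ]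
    hv := by rw [← negM_mul, ← Matrix.mul_assoc, hεi] }
  have hE : MvN (ε.map (Polynomial.evalRingHom 1)) (ε.map (Polynomial.evalRingHom 0)) := mvn_of_extended E 1
  have hPev : ∀ a : A, P.map (Polynomial.evalRingHom a) = p := fun a => by
    rw [hP]; exact Matrix.ext fun x y => by simp
  have hQev : ∀ a : A, Q.map (Polynomial.evalRingHom a) = q := fun a => by
    rw [hQ]; exact Matrix.ext fun x y => by simp
  have hJK : ∀ M : Matrix ι ι A, ∀ (hM : M * M = M),
      inlM A ι * M * fstM A ι * (inlM A ι * M * fstM A ι) = inlM A ι * M * fstM A ι := fun M hM => by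
    calc _ = inlM A ι * M * (fstM A ι * inlM A ι) * M * fstM A ι := by simp only [Matrix.mul_assoc]
      _ = _ := by rw [fstM_mul_inlM, Matrix.mul_one, Matrix.mul_assoc (inlM A ι) M M, hM]
  have h1 : MvN (ε.map (Polynomial.evalRingHom 1)) (inlM A ι * p * fstM A ι) := by
    have hx : i₀.map (Polynomial.evalRingHom 1) * r₀.map (Polynomial.evalRingHom 1) = ε.map (Polynomial.evalRingHom 1) := by
      rw [← Matrix.map_mul, hir, map_smul_matrix]; simp
    have hy : r₀.map (Polynomial.evalRingHom 1) * i₀.map (Polynomial.evalRingHom 1) = p := by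
      rw [← Matrix.map_mul, hri, map_smul_matrix, hPev]; simp
    rw [← hx, ← hy]
    exact MvN.of_rect _ _ (fstM_mul_inlM A) _ _
  obtain ⟨e0, he0⟩ : ∃ e0 : A[X] →+* A, e0 = Polynomial.evalRingHom 0 := ⟨_, rfl⟩
  have h0 : MvN (ε.map (Polynomial.evalRingHom 0)) (inlM A ι * q * fstM A ι) := by
    let x : Matrix (ι ⊕ ι) ι A[X] := Matrix.fromRows (a' • φ) ((b' * g) • Q)
    let y : Matrix ι (ι ⊕ ι) A[X] := Matrix.fromCols ψ Q
    have hg0 : e0 g = 1 := by
      rw [he0, Polynomial.coe_evalRingHom, ← Polynomial.coeff_zero_eq_eval_zero, hg]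
    have hyx : (y * x).map e0 = q := by
      show (Matrix.fromCols ψ Q * Matrix.fromRows _ _).map e0 = q
      rw [Matrix.fromCols_mul_fromRows, Matrix.mul_smul, Matrix.mul_smul, hψφ, hQQ, smul_smul, ← add_smul,
        map_smul_matrix, he0, hQev, ← he0]
      rw [show a' * (Polynomial.X ^ c * g) + b' * g = 1 + a' * Polynomial.X ^ c * (g - 1) by linear_combination hab]
      simp [hg0]
    have hxy : (x * y).map e0 = ε.map e0 := by
      show (Matrix.fromRows _ _ * Matrix.fromCols ψ Q).map e0 = _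
      rw [Matrix.fromRows_mul_fromCols, hε, Matrix.fromBlocks_map, Matrix.fromBlocks_map]
      simp only [Matrix.smul_mul, hφψ, hφq, hqψ, hQQ, smul_smul, map_smul_matrix, map_mul, hg0, mul_one]
    rw [← he0, ← hxy, ← hyx, Matrix.map_mul, Matrix.map_mul]
    exact MvN.of_rect _ _ (fstM_mul_inlM A) _ _
  refine MvN.of_conj _ _ (fstM_mul_inlM A) hp hq ?_
  exact ((h1.symm.trans hE (hJK p hp) (by rw [← Matrix.map_mul, hεε])).trans h0 (hJK p hp) (hJK q hq))

end Groth.Agent.Horrocks
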