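import Groth.Agent.Horrocks.Basic

/-! Splitting of bundles on the projective line over a field. -/

universe u

namespace Groth.Agent.Horrocks

open Polynomial Matrix LaurentPolynomial

theorem exists_factor_of_idem {R : Type u} [CommRing R] [IsDomain R] [IsPrincipalIdealRing R] {ι : Type}
    [Fintype ι] [DecidableEq ι] (e : Matrix ι ι R) (he : e * e = e) :
    ∃ (r : ℕ) (a : Matrix ι (Fin r) R) (b : Matrix (Fin r) ι R), a * b = e ∧ b * a = 1 := by
  obtain ⟨r, bas⟩ := Submodule.basisOfPid (Pi.basisFun R ι) (LinearMap.range (Matrix.toLin' e))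
  refine ⟨r, LinearMap.toMatrix' ((LinearMap.range (Matrix.toLin' e)).subtype.comp bas.equivFun.symm.toLinearMap),
    LinearMap.toMatrix' (bas.equivFun.toLinearMap.comp (Matrix.toLin' e).rangeRestrict), ?_, ?_⟩
  · rw [← LinearMap.toMatrix'_comp]
    conv_rhs => rw [← LinearMap.toMatrix'_toLin' e]
    congr 1
    refine LinearMap.ext fun x => ?_
    show ((bas.equivFun.symm (bas.equivFun ((Matrix.toLin' e).rangeRestrict x))) : ι → R) = _
    rw [LinearEquiv.symm_apply_apply]
    rfl
  · rw [← LinearMap.toMatrix'_comp, ← LinearMap.toMatrix'_id]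
    congr 1
    refine LinearMap.ext fun x => ?_
    obtain ⟨z, rfl⟩ := bas.equivFun.surjective x
    simp only [LinearMap.comp_apply, LinearEquiv.coe_coe, LinearEquiv.symm_apply_apply, LinearMap.id_apply]
    congr 1
    refine Subtype.ext ?_
    obtain ⟨_, y, rfl⟩ := z
    show Matrix.toLin' e (Matrix.toLin' e y) = Matrix.toLin' e y
    rw [← LinearMap.comp_apply, ← Matrix.toLin'_mul, he]

theorem card_eq_of_inverse {R : Type u} [CommRing R] [Nontrivial R] {m n : Type*} [Fintype m] [Fintype n]
    [DecidableEq m] [DecidableEq n] (g : Matrix m n R) (h : Matrix n m R) (hgh : g * h = 1) (hhg : h * g = 1) :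
    Fintype.card m = Fintype.card n := by
  have := (Matrix.toLin'OfInv hhg hgh).finrank_eq
  simpa [Module.finrank_fintype_fun_eq_card] using this.symm

theorem negL_reflect {A : Type u} [CommRing A] (D : ℕ) (q : A[X]) (hq : q.natDegree ≤ D) :
    negL A (q.reflect D) = T (-(D : ℤ)) * toLaurent q := by
  conv_lhs => rw [q.as_sum_range' (D + 1) (Nat.lt_succ_of_le hq)]
  conv_rhs => rw [q.as_sum_range' (D + 1) (Nat.lt_succ_of_le hq)]
  rw [map_sum, Finset.mul_sum]
  let Φ : A[X] →+ A[X] :=
    { toFun := fun p => p.reflect D, map_zero' := Polynomial.reflect_zero, map_add' := fun p p' => Polynomial.reflect_add p p' D }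
  show negL A (Φ (∑ n ∈ Finset.range (D + 1), monomial n (q.coeff n))) = _
  rw [map_sum, map_sum]
  refine Finset.sum_congr rfl fun n hn => ?_
  have hnD : n ≤ D := Nat.lt_succ_iff.1 (Finset.mem_range.1 hn)
  show negL A ((monomial n (q.coeff n)).reflect D) = _
  rw [← Polynomial.C_mul_X_pow_eq_monomial, Polynomial.reflect_C_mul_X_pow, Polynomial.revAt_le hnD,
    map_mul, map_mul, negL_C, negL_X_pow, Polynomial.toLaurent_C, Polynomial.toLaurent_X_pow, mul_left_comm,
    ← T_add]
  congr 2
  omega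

theorem isUnit_of_negL {k : Type u} [Field k] {y : k[X]} (hy : IsUnit (negL k y)) (h0 : y.coeff 0 ≠ 0) : IsUnit y := by
  have hy' : IsUnit (toLaurent y) := by
    have := hy.map (LaurentPolynomial.invert (R := k))
    rwa [invert_negL] at this
  obtain ⟨z, hz⟩ := hy'.exists_right_inv
  obtain ⟨n, z', hz'⟩ := z.exists_T_pow
  have hdvd : y ∣ (Polynomial.X : k[X]) ^ n := ⟨z', Polynomial.toLaurent_injective (by
    rw [map_mul, hz', ← mul_assoc, hz, one_mul, Polynomial.toLaurent_X_pow])⟩
  obtain ⟨i, -, hi⟩ := (dvd_prime_pow Polynomial.prime_X n).1 hdvd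
  cases i with
  | zero => exact isUnit_of_associated_one (by simpa using hi)
  | succ i =>
    exfalso
    refine h0 (Polynomial.X_dvd_iff.1 ((dvd_pow_self _ i.succ_ne_zero).trans hi.symm.dvd))
where
  isUnit_of_associated_one {y : k[X]} (h : Associated y 1) : IsUnit y := associated_one_iff_isUnit.1 h

/-- Column reduction: a Birkhoff factorisation. -/
theorem exists_birkhoff {k : Type u} [Field k] {r : ℕ} (g : Matrix (Fin r) (Fin r) k[T;T⁻¹])
    (hg : IsUnit g.det) :
    ∃ (Z Y : Matrix (Fin r) (Fin r) k[X]) (d : Fin r → ℤ),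
      IsUnit Z.det ∧ IsUnit Y.det ∧ g * posM Z = negM Y * Matrix.diagonal (fun i => T (d i)) := by
  classical
  obtain ⟨K, hK⟩ := exists_posM g
  obtain ⟨P, hP⟩ := hK K le_rfl
  have hdetP : IsUnit (toLaurent P.det) := by
    rw [RingHom.map_det]
    show IsUnit (posM P).det
    rw [hP, Matrix.det_smul]
    exact ((isUnit_T _).pow _).mul hg
  let colDeg : Matrix (Fin r) (Fin r) k[X] → Fin r → ℕ := fun M j => Finset.univ.sup fun i => (M i j).natDegree
  have hex : ∃ n, ∃ Z : Matrix (Fin r) (Fin r) k[X], IsUnit Z.det ∧ ∑ j, colDeg (P * Z) j = n :=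
    ⟨_, 1, by simp, rfl⟩
  obtain ⟨Z, hZ, hsum⟩ := Nat.find_spec hex
  have hmin : ∀ Z' : Matrix (Fin r) (Fin r) k[X], IsUnit Z'.det → ∑ j, colDeg (P * Z) j ≤ ∑ j, colDeg (P * Z') j :=
    fun Z' hZ' => hsum.symm ▸ Nat.find_min' hex ⟨Z', hZ', rfl⟩
  obtain ⟨D, hD⟩ : ∃ D, D = colDeg (P * Z) := ⟨_, rfl⟩
  rw [← hD] at hmin
  have hdeg : ∀ i j, ((P * Z) i j).natDegree ≤ D j := fun i j => by
    rw [hD]; exact Finset.le_sup (f := fun i => ((P * Z) i j).natDegree) (Finset.mem_univ i)
  let ℓ : Matrix (Fin r) (Fin r) k := Matrix.of fun i j => ((P * Z) i j).coeff (D j)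
  have hℓ : ℓ.det ≠ 0 := by
    intro h
    obtain ⟨c, hc0, hc⟩ := Matrix.exists_mulVec_eq_zero_iff.2 h
    obtain ⟨j, hjs, hj⟩ := Finset.exists_max_image (Finset.univ.filter fun i => c i ≠ 0) D (by
      obtain ⟨i, hi⟩ := Function.ne_iff.1 hc0
      exact ⟨i, by simpa using hi⟩)
    have hcj : c j ≠ 0 := (Finset.mem_filter.1 hjs).2
    let w : Fin r → k[X] := fun i => Polynomial.C (c i) * Polynomial.X ^ (D j - D i)
    let Z' := Z.updateCol j (Z *ᵥ w)
    have hdetZ' : Z'.det = w j * Z.det := by
      show (Z.updateCol j (Z *ᵥ w)).det = _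
      rw [show (Z *ᵥ w) = fun q => ∑ i, w i • Z q i from funext fun q => by
        simp [Matrix.mulVec, dotProduct, mul_comm]]
      rw [Matrix.det_updateCol_sum]
      rfl
    have hwj : w j = Polynomial.C (c j) := by simp [w]
    have hZ' : IsUnit Z'.det := by
      rw [hdetZ', hwj]
      exact (Polynomial.isUnit_C.2 (Ne.isUnit hcj)).mul hZ
    have hPZ' : P * Z' = (P * Z).updateCol j ((P * Z) *ᵥ w) := by
      show P * Z.updateCol j (Z *ᵥ w) = _
      rw [Matrix.mul_updateCol, Matrix.mulVec_mulVec]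
    have hentry : ∀ i, (((P * Z) *ᵥ w) i).natDegree ≤ D j ∧ (((P * Z) *ᵥ w) i).coeff (D j) = 0 := by
      intro i
      constructor
      · show (∑ q, (P * Z) i q * w q).natDegree ≤ D j
        refine Polynomial.natDegree_sum_le_of_forall_le _ _ fun q _ => ?_
        by_cases hq : c q = 0
        · simp [w, hq]
        · have := hj q (by simp [hq])
          refine Polynomial.natDegree_mul_le.trans ?_
          have h2 : (w q).natDegree ≤ D j - D q := Polynomial.natDegree_C_mul_X_pow_le _ _
          have := hdeg i q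
          omega
      · show (∑ q, (P * Z) i q * w q).coeff (D j) = 0
        rw [Polynomial.finsetSum_coeff]
        refine Eq.trans (Finset.sum_congr rfl fun q _ => ?_) (congrFun hc i)
        show _ = ℓ i q * c q
        by_cases hq : c q = 0
        · simp [w, hq]
        · have := hj q (by simp [hq])
          show ((P * Z) i q * (Polynomial.C (c q) * Polynomial.X ^ (D j - D q))).coeff (D j) = _
          rw [← mul_assoc, Polynomial.coeff_mul_X_pow', if_pos (by omega), Polynomial.coeff_mul_C,
            show D j - (D j - D q) = D q by omega]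
          rfl
    have hlt : colDeg (P * Z') j < D j := by
      rcases Nat.eq_zero_or_pos (D j) with h0 | h0
      · exfalso
        have hcol : ∀ i, (P * Z') i j = 0 := fun i => by
          rw [hPZ', Matrix.updateCol_self]
          obtain ⟨h1, h2⟩ := hentry i
          rw [h0] at h1 h2
          rw [Polynomial.eq_C_of_natDegree_le_zero h1, h2, map_zero]
        have := Matrix.det_eq_zero_of_column_eq_zero j hcol
        rw [Matrix.det_mul] at this
        have hu := hdetP.mul (hZ'.map (toLaurent : k[X] →+* k[T;T⁻¹]))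
        rw [← map_mul, this, map_zero] at hu
        exact not_isUnit_zero hu
      · refine (Finset.sup_lt_iff h0).2 fun i _ => ?_
        rw [hPZ', Matrix.updateCol_self]
        obtain ⟨h1, h2⟩ := hentry i
        rcases h1.lt_or_eq with h | h
        · exact h
        · by_cases h3 : ((P * Z) *ᵥ w) i = 0
          · rw [h3]; simpa using h0
          · exact absurd (show (((P * Z) *ᵥ w) i).leadingCoeff = 0 by rw [Polynomial.leadingCoeff, h]; exact h2) (Polynomial.leadingCoeff_ne_zero.2 h3)
    have hle : ∀ q, q ≠ j → colDeg (P * Z') q = D q := fun q hq => by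
      rw [hD]
      refine Finset.sup_congr rfl fun i _ => ?_
      rw [hPZ', Matrix.updateCol_ne hq]
    refine absurd (hmin Z' hZ') (not_le.2 ?_)
    refine Finset.sum_lt_sum (fun q _ => ?_) ⟨j, Finset.mem_univ _, hlt⟩
    by_cases hq : q = j
    · exact hq ▸ hlt.le
    · exact (hle q hq).le
  let Y : Matrix (Fin r) (Fin r) k[X] := Matrix.of fun i j => ((P * Z) i j).reflect (D j)
  have hY : negM Y = posM (P * Z) * Matrix.diagonal (fun j => T (-(D j : ℤ))) := by
    refine Matrix.ext fun i j => ?_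
    rw [Matrix.mul_diagonal]
    show negL k (((P * Z) i j).reflect (D j)) = _
    rw [negL_reflect _ _ (hdeg i j), mul_comm]
    rfl
  have hY0 : IsUnit Y.det := by
    refine isUnit_of_negL ?_ ?_
    · rw [RingHom.map_det]
      show IsUnit (negM Y).det
      rw [hY, Matrix.det_mul, Matrix.det_diagonal, posM_mul, Matrix.det_mul]
      refine (IsUnit.mul ?_ ?_).mul (IsUnit.prod_univ_iff.2 fun j => isUnit_T _)
      · rw [hP, Matrix.det_smul]; exact ((isUnit_T _).pow _).mul hg
      · have := hZ.map (toLaurent : k[X] →+* k[T;T⁻¹])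
        rwa [RingHom.map_det] at this
    · rw [← Polynomial.constantCoeff_apply, RingHom.map_det]
      convert hℓ
      ext i j
      show (((P * Z) i j).reflect (D j)).coeff 0 = ((P * Z) i j).coeff (D j)
      rw [Polynomial.coeff_reflect, Polynomial.revAt_le (Nat.zero_le _), Nat.sub_zero]
  refine ⟨Z, Y, fun i => (D i : ℤ) - K, hZ, hY0, ?_⟩
  rw [hY, posM_mul, hP, Matrix.smul_mul, Matrix.mul_assoc, Matrix.diagonal_mul_diagonal]
  refine Matrix.ext fun i j => ?_
  rw [Matrix.mul_diagonal]
  simp only [Matrix.smul_mul, Matrix.smul_apply, smul_eq_mul, ← T_add]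
  rw [show (-(D j : ℤ)) + ((D j : ℤ) - K) = -(K : ℤ) by ring, mul_right_comm, ← T_add, add_neg_cancel, T_zero,
    one_mul]

theorem exists_splitting {k : Type u} [Field k] {ι : Type} [Fintype ι] [DecidableEq ι] (E : Bundle k ι) :
    ∃ (r : ℕ) (V W : Matrix ι (Fin r) k[X]) (φ ψ : Matrix (Fin r) ι k[X]) (d : Fin r → ℤ),
      V * φ = E.e ∧ φ * V = 1 ∧ W * ψ = E.ε ∧ ψ * W = 1 ∧
        E.v * posM V = negM W * Matrix.diagonal (fun i => T (d i)) := by
  obtain ⟨r, a, b, hab, hba⟩ := exists_factor_of_idem E.e E.he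
  obtain ⟨r', a', b', hab', hba'⟩ := exists_factor_of_idem E.ε E.hε
  have hgh : negM b' * E.v * posM a * (posM b * E.u * negM a') = 1 := by
    calc negM b' * E.v * posM a * (posM b * E.u * negM a')
        = negM b' * (E.v * posM (a * b)) * E.u * negM a' := by rw [posM_mul]; simp only [Matrix.mul_assoc]
      _ = negM b' * negM (a' * b') * negM a' := by
          rw [hab, E.v_e, Matrix.mul_assoc (negM b') E.v E.u, E.hvu, hab']
      _ = negM ((b' * a') * (b' * a')) := by simp only [negM_mul, Matrix.mul_assoc]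
      _ = 1 := by rw [hba', Matrix.one_mul]; exact Matrix.map_one _ (map_zero _) (map_one _)
  have hhg : posM b * E.u * negM a' * (negM b' * E.v * posM a) = 1 := by
    calc posM b * E.u * negM a' * (negM b' * E.v * posM a)
        = posM b * (E.u * negM (a' * b')) * E.v * posM a := by rw [negM_mul]; simp only [Matrix.mul_assoc]
      _ = posM b * posM (a * b) * posM a := by
          rw [hab', E.u_ε, Matrix.mul_assoc (posM b) E.u E.v, E.huv, hab]
      _ = posM ((b * a) * (b * a)) := by simp only [posM_mul, Matrix.mul_assoc]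
      _ = 1 := by rw [hba, Matrix.one_mul]; exact Matrix.map_one _ (map_zero _) (map_one _)
  obtain rfl : r' = r := by simpa using card_eq_of_inverse _ _ hgh hhg
  obtain ⟨Z, Y, d, hZ, hY, hZY⟩ := exists_birkhoff (negM b' * E.v * posM a) (Matrix.isUnit_det_of_right_inverse hgh)
  refine ⟨_, a * Z, a' * Y, Z⁻¹ * b, Y⁻¹ * b', d, ?_, ?_, ?_, ?_, ?_⟩
  · rw [Matrix.mul_assoc, ← Matrix.mul_assoc Z, Matrix.mul_nonsing_inv _ hZ, Matrix.one_mul, hab]
  · rw [Matrix.mul_assoc, ← Matrix.mul_assoc b, hba, Matrix.one_mul, Matrix.nonsing_inv_mul _ hZ]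
  · rw [Matrix.mul_assoc, ← Matrix.mul_assoc Y, Matrix.mul_nonsing_inv _ hY, Matrix.one_mul, hab']
  · rw [Matrix.mul_assoc, ← Matrix.mul_assoc b', hba', Matrix.one_mul, Matrix.nonsing_inv_mul _ hY]
  · conv_lhs => rw [← E.hv, ← hab', negM_mul, posM_mul]
    calc negM a' * negM b' * E.v * (posM a * posM Z)
        = negM a' * ((negM b' * E.v * posM a) * posM Z) := by simp only [Matrix.mul_assoc]
      _ = _ := by rw [hZY, negM_mul]; exact (Matrix.mul_assoc _ _ _).symm

end Groth.Agent.Horrocks
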