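import Groth.Agent.Horrocks.Field

/-! Horrocks' theorem over a local ring: bundles on the projective line are trivial on the affine line. -/

universe u

namespace Groth.Agent.Horrocks

open Polynomial Matrix LaurentPolynomial IsLocalRing

theorem polynomial_idem_eq_zero {R : Type u} [CommRing R] {g : R[X]} (hg : g * g = g) (h0 : g.coeff 0 = 0) :
    g = 0 := by
  have h : ∀ n, Polynomial.X ^ (n + 1) ∣ g := by
    intro n
    induction n with
    | zero => simpa using Polynomial.X_dvd_iff.2 h0
    | succ n ih =>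
      have := mul_dvd_mul ih (Polynomial.X_dvd_iff.2 h0)
      rwa [hg, ← pow_succ] at this
  exact Polynomial.ext fun n => Polynomial.X_pow_dvd_iff.1 (h n) n (Nat.lt_succ_self n)

theorem matrix_idem_eq_zero {A : Type u} [CommRing A] [IsLocalRing A] {ι : Type} [Fintype ι] [DecidableEq ι]
    (e : Matrix ι ι A[X]) (he : e * e = e) (h : e.map (Polynomial.mapRingHom (residue A)) = 0) : e = 0 := by
  have h1 : (1 - e) * (1 - e) = 1 - e := by rw [sub_mul, one_mul, mul_sub, mul_one, he, sub_self, sub_zero]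
  have hd : (1 - e).det * (1 - e).det = (1 - e).det := by rw [← Matrix.det_mul, h1]
  have hπ : ((1 - e).det).map (residue A) = 1 := by
    show Polynomial.mapRingHom (residue A) _ = 1
    rw [RingHom.map_det, map_sub, map_one]
    show (1 - e.map (Polynomial.mapRingHom (residue A))).det = 1
    rw [h, sub_zero, Matrix.det_one]
  have hc : IsUnit ((1 - e).det.coeff 0) := by
    apply IsLocalRing.residue_ne_zero_iff_isUnit _ |>.1
    have := congrArg (fun p => Polynomial.coeff p 0) hπ
    simp only [Polynomial.coeff_map, Polynomial.coeff_one_zero] at this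
    rw [this]; exact one_ne_zero
  have hc1 : (1 - e).det.coeff 0 = 1 := by
    have := congrArg (fun p => Polynomial.coeff p 0) hd
    simp only [Polynomial.mul_coeff_zero] at this
    exact hc.mul_right_cancel (by rw [this, one_mul])
  have h2 : (1 - e).det = 1 := by
    refine (sub_eq_zero.1 (polynomial_idem_eq_zero (g := 1 - (1 - e).det) ?_ (by simp [hc1]))).symm
    rw [sub_mul, one_mul, mul_sub, mul_one, hd, sub_self, sub_zero]
  have hu : IsUnit (1 - e) := (Matrix.isUnit_iff_isUnit_det _).2 (h2 ▸ isUnit_one)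
  have := hu.mul_left_cancel (show (1 - e) * (1 - e) = (1 - e) * 1 by rw [h1, mul_one])
  simpa using sub_eq_self.1 this

theorem ideal_eq_top {A : Type u} [CommRing A] [IsLocalRing A] (I : Ideal A[X]) {f h : A[X]} {K : ℕ}
    (hf : f ∈ I) (hfπ : f.map (residue A) = 1) (hh : h ∈ I) (hd : h.natDegree ≤ K) (hK : IsUnit (h.coeff K)) :
    I = ⊤ := by
  let g := Polynomial.C (↑hK.unit⁻¹ : A) * h
  have hg : g.Monic := by
    refine Polynomial.monic_of_natDegree_le_of_coeff_eq_one K ((Polynomial.natDegree_C_mul_le _ _).trans hd) ?_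
    rw [Polynomial.coeff_C_mul, IsUnit.val_inv_mul]
  have := hg.finite_quotient
  have hle : Ideal.span {g} ≤ I := (Ideal.span_singleton_le_iff_mem _).2 (Ideal.mul_mem_left _ _ hh)
  have : Module.Finite A (A[X] ⧸ I) :=
    Module.Finite.of_surjective ((Ideal.Quotient.factorₐ A hle).toLinearMap) (Ideal.Quotient.factor_surjective hle)
  have key : ∀ p : A[X], p.map (residue A) = 0 → Ideal.Quotient.mk I p ∈ maximalIdeal A • (⊤ : Submodule A (A[X] ⧸ I)) := by
    intro p hp
    rw [p.as_sum_range_C_mul_X_pow, map_sum]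
    refine Submodule.sum_mem _ fun n _ => ?_
    rw [← Polynomial.smul_eq_C_mul]
    refine Submodule.smul_mem_smul ((residue_eq_zero_iff _).1 ?_) (Submodule.mem_top (x := Ideal.Quotient.mk I (Polynomial.X ^ n)))
    simpa using congrArg (fun q => Polynomial.coeff q n) hp
  have htop : (⊤ : Submodule A (A[X] ⧸ I)) ≤ maximalIdeal A • ⊤ := by
    intro x _
    obtain ⟨p, rfl⟩ := Ideal.Quotient.mk_surjective x
    have e1 : Ideal.Quotient.mk I p = Ideal.Quotient.mk I (p * (1 - f)) := by
      rw [Ideal.Quotient.mk_eq_mk_iff_sub_mem, mul_sub, mul_one, sub_sub_cancel]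
      exact Ideal.mul_mem_left _ _ hf
    rw [e1]
    refine key _ ?_
    rw [Polynomial.map_mul, Polynomial.map_sub, hfπ, Polynomial.map_one, sub_self, mul_zero]
  have h0 := Submodule.eq_bot_of_le_smul_of_le_jacobson_bot _ _ Module.Finite.fg_top htop
    (IsLocalRing.maximalIdeal_le_jacobson _)
  rw [Ideal.eq_top_iff_one, ← Ideal.Quotient.eq_zero_iff_mem]
  exact (Submodule.mem_bot A).1 (h0 ▸ Submodule.mem_top)

section

variable {A : Type u} [CommRing A] {ι : Type} [Fintype ι] [DecidableEq ι]

theorem posM_smul {κ : Type*} (a : A) (x : Matrix ι κ A[X]) : posM (a • x) = a • posM x :=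
  Matrix.ext fun i j => map_smul (Polynomial.toLaurentAlg (R := A)) a (x i j)

theorem negM_smul {κ : Type*} (a : A) (x : Matrix ι κ A[X]) : negM (a • x) = a • negM x :=
  Matrix.ext fun i j => by
    show negL A (a • x i j) = a • negL A (x i j)
    rw [negL_apply, negL_apply, ← map_smul]
    exact congrArg _ (map_smul (Polynomial.toLaurentAlg (R := A)) a (x i j))

/-- The Čech differential. -/
noncomputable def delta (E : Bundle A ι) :
    (Matrix ι Unit A[X] × Matrix ι Unit A[X] × Matrix ι Unit A[T;T⁻¹]) →ₗ[A] Matrix ι Unit A[T;T⁻¹] where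
  toFun x := E.v * posM x.1 + negM E.ε * negM x.2.1 + (1 - negM E.ε) * x.2.2
  map_add' x y := by
    simp only [Prod.fst_add, Prod.snd_add, Matrix.map_add _ (map_add _), Matrix.mul_add]
    abel
  map_smul' a x := by
    simp only [Prod.smul_fst, Prod.smul_snd, posM_smul, negM_smul, Matrix.mul_smul, RingHom.id_apply, smul_add]

theorem delta_apply (E : Bundle A ι) (p q : Matrix ι Unit A[X]) (r : Matrix ι Unit A[T;T⁻¹]) :
    delta E (p, q, r) = E.v * posM p + negM E.ε * negM q + (1 - negM E.ε) * r := rfl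

theorem map_delta {B : Type u} [CommRing B] (f : A →+* B) (E : Bundle A ι) (p q : Matrix ι Unit A[X])
    (r : Matrix ι Unit A[T;T⁻¹]) :
    (delta E (p, q, r)).map (lmap f) =
      delta (E.map f) (p.map (Polynomial.mapRingHom f), q.map (Polynomial.mapRingHom f), r.map (lmap f)) := by
  rw [delta_apply, delta_apply, Matrix.map_add _ (map_add _), Matrix.map_add _ (map_add _), Matrix.map_mul, Matrix.map_mul, Matrix.map_mul,
    map_posM, map_negM, map_negM, Matrix.map_sub _ (map_sub _), Matrix.map_one _ (map_zero _) (map_one _), map_negM]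
  rfl

end

theorem laurent_split {k : Type u} [CommRing k] {d : ℤ} (hd : d ≤ 1) (c : k[T;T⁻¹]) :
    ∃ a b : k[X], c = T d * toLaurent a + negL k b := by
  induction c using LaurentPolynomial.induction_on' with
  | add x y hx hy =>
    obtain ⟨a, b, rfl⟩ := hx
    obtain ⟨a', b', rfl⟩ := hy
    exact ⟨a + a', b + b', by rw [map_add, map_add]; ring⟩
  | C_mul_T n a =>
    by_cases hn : 0 < n
    · refine ⟨Polynomial.C a * Polynomial.X ^ (n - d).toNat, 0, ?_⟩
      rw [map_zero, add_zero, map_mul, Polynomial.toLaurent_C, Polynomial.toLaurent_X_pow, mul_left_comm, ← T_add]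
      congr 2
      omega
    · refine ⟨0, Polynomial.C a * Polynomial.X ^ (-n).toNat, ?_⟩
      rw [map_zero, mul_zero, zero_add, map_mul, negL_C, negL_X_pow]
      congr 2
      omega

variable {A : Type u} [CommRing A] [IsLocalRing A] {ι : Type} [Fintype ι] [DecidableEq ι]

theorem mem_smul_of_lmap_eq_zero {x : A[T;T⁻¹]} (hx : lmap (residue A) x = 0) :
    x ∈ maximalIdeal A • (⊤ : Submodule A A[T;T⁻¹]) := by
  obtain ⟨n, p, hp⟩ := x.exists_T_pow
  have hpπ : p.map (residue A) = 0 := Polynomial.toLaurent_injective (by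
    rw [← lmap_toLaurent, hp, map_mul, hx, zero_mul, map_zero])
  have hx' : x = toLaurent p * T (-(n : ℤ)) := by rw [hp, mul_assoc, ← T_add, add_neg_cancel, T_zero, mul_one]
  rw [hx', p.as_sum_range_C_mul_X_pow, map_sum, Finset.sum_mul]
  refine Submodule.sum_mem _ fun i _ => ?_
  rw [map_mul, Polynomial.toLaurent_C, mul_assoc, LaurentPolynomial.C_eq_algebraMap, ← Algebra.smul_def]
  refine Submodule.smul_mem_smul ((residue_eq_zero_iff _).1 ?_) Submodule.mem_top
  simpa using congrArg (fun q => Polynomial.coeff q i) hpπ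

theorem matrix_mem_smul {x : Matrix ι Unit A[T;T⁻¹]} (hx : x.map (lmap (residue A)) = 0) :
    x ∈ maximalIdeal A • (⊤ : Submodule A (Matrix ι Unit A[T;T⁻¹])) := by
  rw [Matrix.matrix_eq_sum_single x]
  refine Submodule.sum_mem _ fun i _ => Submodule.sum_mem _ fun j _ => ?_
  have h := Submodule.mem_map_of_mem (f := Matrix.singleLinearMap A i j)
    (mem_smul_of_lmap_eq_zero (congrFun (congrFun hx i) j))
  rw [Submodule.map_smul''] at h
  exact Submodule.smul_mono_right' le_top h
where
  Submodule.smul_mono_right' {N N' : Submodule A (Matrix ι Unit A[T;T⁻¹])} (h : N ≤ N') :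
      maximalIdeal A • N ≤ maximalIdeal A • N' := Submodule.smul_mono le_rfl h

theorem map_residue_eq_zero {κ : Type} {p : Matrix ι κ A[X]}
    (hp : p ∈ maximalIdeal A • (⊤ : Submodule A (Matrix ι κ A[X]))) :
    p.map (Polynomial.mapRingHom (residue A)) = 0 := by
  refine Submodule.smul_induction_on hp (fun a ha x _ => ?_) (fun x y hx hy => ?_)
  · refine Matrix.ext fun i j => ?_
    show (a • x i j).map (residue A) = 0
    rw [Polynomial.smul_eq_C_mul, Polynomial.map_mul, Polynomial.map_C, (residue_eq_zero_iff a).2 ha, map_zero, zero_mul]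
  · rw [Matrix.map_add _ (map_add _), hx, hy, add_zero]

variable (E : Bundle A ι)

theorem delta_surjective {r : ℕ} (V W : Matrix ι (Fin r) (ResidueField A)[X]) (ψ : Matrix (Fin r) ι (ResidueField A)[X])
    (d : Fin r → ℤ) (hd : ∀ i, d i ≤ 1) (hW : W * ψ = (E.map (residue A)).ε) (hψ : ψ * W = 1)
    (hV : (E.map (residue A)).v * posM V = negM W * Matrix.diagonal (fun i => T (d i))) :
    Function.Surjective (delta E) := by
  obtain ⟨Ē, hĒ⟩ : ∃ Ē, Ē = E.map (residue A) := ⟨_, rfl⟩
  rw [← hĒ] at hW hV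
  obtain ⟨K, hK⟩ := exists_posM E.u
  obtain ⟨P, hP⟩ := hK K le_rfl
  let S : Set (Matrix ι Unit A[T;T⁻¹]) :=
    Set.range fun q : ι × Fin K => Matrix.single q.1 () (T ((q.2 : ℕ) : ℤ) : A[T;T⁻¹])
  have hgen : ∀ (i : ι) (n : ℤ), Matrix.single i () (T n : A[T;T⁻¹]) ∈
      LinearMap.range (delta E) ⊔ Submodule.span A S := by
    intro i n
    rcases le_total n 0 with h | h
    · refine Submodule.mem_sup_left ⟨(0, Matrix.single i () (Polynomial.X ^ (-n).toNat), Matrix.single i () (T n)), ?_⟩
      rw [delta_apply, show posM (0 : Matrix ι Unit A[X]) = 0 from Matrix.map_zero _ (map_zero _), Matrix.mul_zero, zero_add,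
        show negM (Matrix.single i () (Polynomial.X ^ (-n).toNat : A[X])) = Matrix.single i () (T n) from by
          rw [negM, Matrix.map_single]; congr 1; rw [negL_X_pow]; congr 1; omega,
        ← Matrix.add_mul, add_sub_cancel, Matrix.one_mul]
    · obtain ⟨m, rfl⟩ := Int.eq_ofNat_of_zero_le h
      by_cases hm : m < K
      · exact Submodule.mem_sup_right (Submodule.subset_span ⟨(i, ⟨m, hm⟩), rfl⟩)
      · refine Submodule.mem_sup_left ⟨(P * Matrix.single i () (Polynomial.X ^ (m - K)), 0, Matrix.single i () (T (m : ℤ))), ?_⟩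
        rw [delta_apply, show negM (0 : Matrix ι Unit A[X]) = 0 from Matrix.map_zero _ (map_zero _), Matrix.mul_zero, add_zero,
          posM_mul, hP, ← Matrix.mul_assoc, Matrix.mul_smul, E.hvu, Matrix.smul_mul,
          show posM (Matrix.single i () (Polynomial.X ^ (m - K) : A[X])) = Matrix.single i () (T ((m - K : ℕ) : ℤ)) from by
            rw [posM, Matrix.map_single, Polynomial.toLaurent_X_pow],
          ← Matrix.mul_smul, Matrix.smul_single, smul_eq_mul, ← T_add,
          show ((K : ℤ) + ((m - K : ℕ) : ℤ)) = (m : ℤ) by omega, ← Matrix.add_mul, add_sub_cancel, Matrix.one_mul]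
  have hall : ∀ x, x ∈ LinearMap.range (delta E) ⊔ Submodule.span A S := by
    intro x
    rw [Matrix.matrix_eq_sum_single x]
    refine Submodule.sum_mem _ fun i _ => Submodule.sum_mem _ fun j _ => ?_
    induction x i j using LaurentPolynomial.induction_on' with
    | add a b ha hb => rw [Matrix.single_add]; exact add_mem ha hb
    | C_mul_T n a =>
      rw [LaurentPolynomial.C_eq_algebraMap, ← Algebra.smul_def, ← Matrix.smul_single]
      exact Submodule.smul_mem _ _ (hgen i n)
  have hmod : ∀ x, x ∈ LinearMap.range (delta E) ⊔ maximalIdeal A • (⊤ : Submodule A (Matrix ι Unit A[T;T⁻¹])) := by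
    intro x
    let c : Matrix (Fin r) Unit (ResidueField A)[T;T⁻¹] := negM ψ * x.map (lmap (residue A))
    choose a b hab using fun l => laurent_split (hd l) (c l ())
    let av : Matrix (Fin r) Unit (ResidueField A)[X] := Matrix.of fun l _ => a l
    let bv : Matrix (Fin r) Unit (ResidueField A)[X] := Matrix.of fun l _ => b l
    have hc : c = Matrix.diagonal (fun l => T (d l)) * posM av + negM bv := Matrix.ext fun l o => by
      rw [Matrix.add_apply, Matrix.diagonal_mul]; exact hab l
    have hεW : Ē.ε * W = W := by rw [← hW, Matrix.mul_assoc, hψ, Matrix.mul_one]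
    have hx : delta Ē (V * av, W * bv, x.map (lmap (residue A))) = x.map (lmap (residue A)) := by
      rw [delta_apply, posM_mul, ← Matrix.mul_assoc, hV, ← negM_mul, ← Matrix.mul_assoc Ē.ε W, hεW, negM_mul,
        Matrix.mul_assoc, ← Matrix.mul_add, ← hc, Matrix.sub_mul, Matrix.one_mul,
        show negM W * c = negM Ē.ε * x.map (lmap (residue A)) by rw [← hW, negM_mul, Matrix.mul_assoc],
        add_sub_cancel]
    obtain ⟨p, hp⟩ : ∃ p : Matrix ι Unit A[X], p.map (Polynomial.mapRingHom (residue A)) = V * av := by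
      choose p hp using fun i => Polynomial.map_surjective (residue A) residue_surjective ((V * av) i ())
      exact ⟨Matrix.of fun i _ => p i, Matrix.ext fun i _ => hp i⟩
    obtain ⟨q, hq⟩ : ∃ q : Matrix ι Unit A[X], q.map (Polynomial.mapRingHom (residue A)) = W * bv := by
      choose q hq using fun i => Polynomial.map_surjective (residue A) residue_surjective ((W * bv) i ())
      exact ⟨Matrix.of fun i _ => q i, Matrix.ext fun i _ => hq i⟩
    refine Submodule.mem_sup.2 ⟨delta E (p, q, x), ⟨_, rfl⟩, x - delta E (p, q, x), matrix_mem_smul ?_, by abel⟩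
    rw [Matrix.map_sub _ (map_sub _), map_delta, ← hĒ, hp, hq, hx, sub_self]
  have hfg : (Submodule.span A S).FG := Submodule.fg_span (Set.finite_range _)
  have hle : Submodule.span A S ≤ LinearMap.range (delta E) := by
    refine Submodule.le_of_le_smul_of_le_jacobson_bot (I := maximalIdeal A) hfg
      (IsLocalRing.maximalIdeal_le_jacobson _) fun x _ => ?_
    have : LinearMap.range (delta E) ⊔ maximalIdeal A • (⊤ : Submodule A (Matrix ι Unit A[T;T⁻¹])) ≤
        LinearMap.range (delta E) ⊔ maximalIdeal A • Submodule.span A S := by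
      refine sup_le le_sup_left ?_
      rw [← eq_top_iff.2 fun x _ => hall x, Submodule.smul_sup]
      exact sup_le_sup_right Submodule.smul_le_right _
    exact this (hmod x)
  intro x
  exact (sup_le le_rfl hle) (hall x)

theorem exists_section {r : ℕ} (V W : Matrix ι (Fin r) (ResidueField A)[X])
    (φ ψ : Matrix (Fin r) ι (ResidueField A)[X]) (d : Fin r → ℤ) (j : Fin r) (hj : d j = 0) (hd : ∀ i, d i ≤ 1)
    (hVφ : V * φ = (E.map (residue A)).e) (hφV : φ * V = 1)
    (hWψ : W * ψ = (E.map (residue A)).ε) (hψW : ψ * W = 1)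
    (hV : (E.map (residue A)).v * posM V = negM W * Matrix.diagonal (fun i => T (d i))) :
    ∃ (s q : Matrix ι Unit A[X]) (a b : Matrix Unit ι A[X]),
      E.e * s = s ∧ E.ε * q = q ∧ E.v * posM s = negM q ∧ a * s = 1 ∧ b * q = 1 := by
  obtain ⟨π, hπ⟩ : ∃ π, π = Polynomial.mapRingHom (residue A) := ⟨_, rfl⟩
  let Vj : Matrix ι Unit (ResidueField A)[X] := Matrix.of fun i _ => V i j
  let Wj : Matrix ι Unit (ResidueField A)[X] := Matrix.of fun i _ => W i j
  obtain ⟨p₀, hp₀⟩ : ∃ p : Matrix ι Unit A[X], p.map π = Vj := by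
    choose p hp using fun i => Polynomial.map_surjective (residue A) residue_surjective (Vj i ())
    exact ⟨Matrix.of fun i _ => p i, Matrix.ext fun i _ => hπ ▸ hp i⟩
  obtain ⟨q₀, hq₀⟩ : ∃ q : Matrix ι Unit A[X], q.map π = -Wj := by
    choose q hq using fun i => Polynomial.map_surjective (residue A) residue_surjective ((-Wj) i ())
    exact ⟨Matrix.of fun i _ => q i, Matrix.ext fun i _ => hπ ▸ hq i⟩
  have hεW : (E.map (residue A)).ε * W = W := by rw [← hWψ, Matrix.mul_assoc, hψW, Matrix.mul_one]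
  have heV : (E.map (residue A)).e * V = V := by rw [← hVφ, Matrix.mul_assoc, hφV, Matrix.mul_one]
  have hεWj : (E.map (residue A)).ε * Wj = Wj := Matrix.ext fun i _ => congrFun (congrFun hεW i) j
  have heVj : (E.map (residue A)).e * Vj = Vj := Matrix.ext fun i _ => congrFun (congrFun heV i) j
  have hvVj : (E.map (residue A)).v * posM Vj = negM Wj := Matrix.ext fun i _ => by
    have h := congrFun (congrFun hV i) j
    rw [Matrix.mul_diagonal] at h
    rw [hj, T_zero, mul_one] at h
    exact h
  have hred : delta E (p₀, q₀, 0) ∈ maximalIdeal A • (⊤ : Submodule A (Matrix ι Unit A[T;T⁻¹])) := by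
    refine matrix_mem_smul ?_
    rw [map_delta, ← hπ, hp₀, hq₀, Matrix.map_zero _ (map_zero _)]
    rw [delta_apply, Matrix.mul_zero, add_zero, hvVj, show negM (-Wj) = - negM Wj from by ext; simp [negM],
      Matrix.mul_neg, ← negM_mul, hεWj, add_neg_cancel]
  rw [← LinearMap.range_eq_top.2 (delta_surjective E V W ψ d hd hWψ hψW hV), LinearMap.range_eq_map,
    ← Submodule.map_smul''] at hred
  obtain ⟨z, hz, hzeq⟩ := hred
  obtain ⟨⟨p, q', w⟩, hker, hpπ, hqπ⟩ : ∃ y : Matrix ι Unit A[X] × Matrix ι Unit A[X] × Matrix ι Unit A[T;T⁻¹],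
      delta E y = 0 ∧ y.1.map π = Vj ∧ y.2.1.map π = -Wj := by
    refine ⟨(p₀, q₀, 0) - z, by rw [map_sub, hzeq, sub_self], ?_, ?_⟩
    · have h1 := Submodule.mem_map_of_mem (f := LinearMap.fst A _ _) hz
      rw [Submodule.map_smul''] at h1
      show (p₀ - z.1).map π = Vj
      have hp := map_residue_eq_zero (Submodule.smul_mono le_rfl le_top h1)
      rw [Matrix.map_sub _ (map_sub _), hp₀, hπ, show z.1.map (Polynomial.mapRingHom (residue A)) = 0 from hp, sub_zero]
    · have h1 := Submodule.mem_map_of_mem (f := (LinearMap.fst A _ _).comp (LinearMap.snd A _ _)) hz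
      rw [Submodule.map_smul''] at h1
      show (q₀ - z.2.1).map π = -Wj
      have hp := map_residue_eq_zero (Submodule.smul_mono le_rfl le_top h1)
      rw [Matrix.map_sub _ (map_sub _), hq₀, hπ, show z.2.1.map (Polynomial.mapRingHom (residue A)) = 0 from hp, sub_zero]
  let s := E.e * p
  let Q := -(E.ε * q')
  have hvs : E.v * posM s = negM Q := by
    have h0 : E.v * posM p + negM E.ε * negM q' + (1 - negM E.ε) * w = 0 := hker
    have h1 := congrArg (fun M => negM E.ε * M) h0
    have hεε : negM E.ε * negM E.ε = negM E.ε := by rw [← negM_mul, E.hε]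
    simp only [Matrix.mul_add, ← Matrix.mul_assoc, E.hv, hεε, Matrix.mul_sub, Matrix.mul_one, sub_self,
      Matrix.zero_mul, add_zero, Matrix.mul_zero] at h1
    rw [posM_mul, ← Matrix.mul_assoc, E.v_e, show negM Q = -(negM (E.ε * q')) from (Matrix.ext fun i j => map_neg (negL A) ((E.ε * q') i j)),
      negM_mul]
    exact eq_neg_of_add_eq_zero_left h1
  have hsπ : s.map π = Vj := by
    show (E.e * p).map π = Vj
    rw [Matrix.map_mul, hpπ]; subst hπ; exact heVj
  have hQπ : Q.map π = Wj := by
    have h : (E.ε * q').map π = -Wj := by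
      rw [Matrix.map_mul, hqπ, Matrix.mul_neg]; subst hπ; exact congrArg Neg.neg hεWj
    show (-(E.ε * q')).map π = Wj
    rw [show (-(E.ε * q')).map π = -((E.ε * q').map π) from (Matrix.ext fun i j => map_neg π ((E.ε * q') i j)), h, neg_neg]
  have hes : E.e * s = s := by show E.e * (E.e * p) = _; rw [← Matrix.mul_assoc, E.he]
  have hεQ : E.ε * Q = Q := by show E.ε * -(E.ε * q') = _; rw [Matrix.mul_neg, ← Matrix.mul_assoc, E.hε]
  have hus : E.u * negM Q = posM s := by rw [← hvs, ← Matrix.mul_assoc, E.huv, ← posM_mul, hes]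
  obtain ⟨a₀, ha₀⟩ : ∃ a : Matrix Unit ι A[X], a.map π = Matrix.of fun _ i => φ j i := by
    choose a ha using fun i => Polynomial.map_surjective (residue A) residue_surjective (φ j i)
    exact ⟨Matrix.of fun _ i => a i, Matrix.ext fun _ i => hπ ▸ ha i⟩
  obtain ⟨b₀, hb₀⟩ : ∃ b : Matrix Unit ι A[X], b.map π = Matrix.of fun _ i => ψ j i := by
    choose b hb using fun i => Polynomial.map_surjective (residue A) residue_surjective (ψ j i)
    exact ⟨Matrix.of fun _ i => b i, Matrix.ext fun _ i => hπ ▸ hb i⟩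
  have has : ((a₀ * s) () ()).map (residue A) = 1 := by
    have h : ((a₀ * s).map π) () () = (1 : Matrix (Fin r) (Fin r) (ResidueField A)[X]) j j := by
      rw [Matrix.map_mul, ha₀, hsπ, ← hφV]; rfl
    rw [Matrix.one_apply_eq, hπ] at h
    exact h
  have hbQ : ((b₀ * Q) () ()).map (residue A) = 1 := by
    have h : ((b₀ * Q).map π) () () = (1 : Matrix (Fin r) (Fin r) (ResidueField A)[X]) j j := by
      rw [Matrix.map_mul, hb₀, hQπ, ← hψW]; rfl
    rw [Matrix.one_apply_eq, hπ] at h
    exact h
  have hmem : ∀ (c : Matrix Unit ι A[X]) (y : Matrix ι Unit A[X]),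
      (c * y) () () ∈ Ideal.span (Set.range fun i => y i ()) := fun c y => by
    rw [Matrix.mul_apply]
    exact Ideal.sum_mem _ fun i _ => Ideal.mul_mem_left _ _ (Ideal.subset_span ⟨i, rfl⟩)
  have hmain : ∀ (x y : Matrix ι Unit A[X]) (c c' : Matrix Unit ι A[X]) (M : Matrix ι ι A[T;T⁻¹]),
      ((c * x) () ()).map (residue A) = 1 → ((c' * y) () ()).map (residue A) = 1 →
      M * posM x = negM y → ∃ a : Matrix Unit ι A[X], a * x = 1 := by
    intro x y c c' M hx hy hxy
    obtain ⟨K, hK⟩ := exists_posM (negM c' * M)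
    obtain ⟨g, hg⟩ : ∃ g, g = (c' * y) () () := ⟨_, rfl⟩
    obtain ⟨R, hR⟩ := hK (max K g.natDegree) (le_max_left _ _)
    obtain ⟨K', hK'⟩ : ∃ K', K' = max K g.natDegree := ⟨_, rfl⟩
    rw [← hK'] at hR
    have hdeg : g.natDegree ≤ K' := hK' ▸ le_max_right _ _
    have hmemI : g.reflect K' ∈ Ideal.span (Set.range fun i => x i ()) := by
      have e1 : toLaurent (g.reflect K') = T (K' : ℤ) * negL A g := by
        have := congrArg (LaurentPolynomial.invert (R := A)) (negL_reflect K' g hdeg)
        rw [invert_negL, map_mul, invert_T, neg_neg] at this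
        exact this
      have e2 : posM (R * x) = (T (K' : ℤ) : A[T;T⁻¹]) • negM (c' * y) := by
        rw [posM_mul, hR, Matrix.smul_mul, Matrix.mul_assoc, hxy, negM_mul]
      have e3 : g.reflect K' = (R * x) () () := Polynomial.toLaurent_injective (by
        rw [e1, hg]; exact (congrFun (congrFun e2 ()) ()).symm)
      rw [e3]; exact hmem R x
    have hg0 : IsUnit (g.coeff 0) := by
      apply IsLocalRing.residue_ne_zero_iff_isUnit _ |>.1
      have h := congrArg (fun p => Polynomial.coeff p 0) hy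
      rw [← hg] at h
      simp only [Polynomial.coeff_map, Polynomial.coeff_one_zero] at h
      rw [h]; exact one_ne_zero
    have htop := ideal_eq_top _ (hmem c x) hx hmemI
      ((Polynomial.natDegree_reflect_le).trans (max_le le_rfl hdeg)) (by
        rw [Polynomial.coeff_reflect, Polynomial.revAt_le le_rfl, Nat.sub_self]; exact hg0)
    obtain ⟨f, hf⟩ := Ideal.mem_span_range_iff_exists_fun.1 ((Ideal.eq_top_iff_one _).1 htop)
    exact ⟨Matrix.of fun _ i => f i, Matrix.ext fun _ _ => by rw [Matrix.mul_apply]; simpa using hf⟩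
  obtain ⟨a, ha⟩ := hmain s Q a₀ b₀ E.v has hbQ hvs
  obtain ⟨b, hb⟩ := hmain Q s b₀ a₀ (E.u.map (LaurentPolynomial.invert (R := A))) hbQ has (by
    have h := congrArg (fun M => M.map (LaurentPolynomial.invert (R := A))) hus
    simp only [Matrix.map_mul] at h
    rw [show posM Q = (negM Q).map (LaurentPolynomial.invert (R := A)) from Matrix.ext fun i j => (invert_negL _).symm]
    exact h)
  exact ⟨s, Q, a, b, hes, hεQ, hvs, ha, hb⟩

theorem split_off {s q : Matrix ι Unit A[X]} {a b : Matrix Unit ι A[X]} (hes : E.e * s = s) (hεq : E.ε * q = q)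
    (hvs : E.v * posM s = negM q) (ha : a * s = 1) (hb : b * q = 1) :
    ∃ E' : Bundle A ι, E'.e = E.e - s * (a * E.e) := by
  have hus : E.u * negM q = posM s := by rw [← hvs, ← Matrix.mul_assoc, E.huv, ← posM_mul, hes]
  obtain ⟨f, hf⟩ : ∃ f, f = E.e - s * (a * E.e) := ⟨_, rfl⟩
  obtain ⟨g, hg⟩ : ∃ g, g = E.ε - q * (b * E.ε) := ⟨_, rfl⟩
  have hfs : f * s = 0 := by
    rw [hf, Matrix.sub_mul, hes, Matrix.mul_assoc, Matrix.mul_assoc, hes, ha, Matrix.mul_one, sub_self]
  have hgq : g * q = 0 := by
    rw [hg, Matrix.sub_mul, hεq, Matrix.mul_assoc, Matrix.mul_assoc, hεq, hb, Matrix.mul_one, sub_self]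
  have hfe : f * E.e = f := by rw [hf, Matrix.sub_mul, E.he, Matrix.mul_assoc, Matrix.mul_assoc, E.he]
  have hgε : g * E.ε = g := by rw [hg, Matrix.sub_mul, E.hε, Matrix.mul_assoc, Matrix.mul_assoc, E.hε]
  have hff : f * f = f := by
    nth_rw 2 [hf]
    rw [Matrix.mul_sub, hfe, ← Matrix.mul_assoc, hfs, Matrix.zero_mul, sub_zero]
  have hgg : g * g = g := by
    nth_rw 2 [hg]
    rw [Matrix.mul_sub, hgε, ← Matrix.mul_assoc, hgq, Matrix.zero_mul, sub_zero]
  have hugv : E.u * negM g * E.v = posM E.e - posM s * (negM (b * E.ε) * E.v) := by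
    rw [hg, show negM (E.ε - q * (b * E.ε)) = negM E.ε - negM (q * (b * E.ε)) from Matrix.map_sub _ (map_sub _) _ _,
      Matrix.mul_sub, E.u_ε, Matrix.sub_mul, E.huv, negM_mul, ← Matrix.mul_assoc E.u, hus, Matrix.mul_assoc]
  have hvfu : E.v * posM f * E.u = negM E.ε - negM q * (posM (a * E.e) * E.u) := by
    rw [hf, show posM (E.e - s * (a * E.e)) = posM E.e - posM (s * (a * E.e)) from Matrix.map_sub _ (map_sub _) _ _,
      Matrix.mul_sub, E.v_e, Matrix.sub_mul, E.hvu, posM_mul, ← Matrix.mul_assoc E.v, hvs, Matrix.mul_assoc]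
  exact ⟨{
    e := f
    ε := g
    u := posM f * (E.u * negM g)
    v := negM g * (E.v * posM f)
    he := hff
    hε := hgg
    huv := by
      calc posM f * (E.u * negM g) * (negM g * (E.v * posM f))
          = posM f * (E.u * negM (g * g) * E.v) * posM f := by simp only [negM_mul, Matrix.mul_assoc]
        _ = posM ((f * E.e) * f) - posM ((f * s)) * (negM (b * E.ε) * E.v) * posM f := by
            rw [hgg, hugv, Matrix.mul_sub, Matrix.sub_mul]; simp only [posM_mul, Matrix.mul_assoc]
        _ = posM f := by rw [hfe, hff, hfs, show posM (0 : Matrix ι Unit A[X]) = 0 from Matrix.map_zero _ (map_zero _),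
            Matrix.zero_mul, Matrix.zero_mul, sub_zero]
    hvu := by
      calc negM g * (E.v * posM f) * (posM f * (E.u * negM g))
          = negM g * (E.v * posM (f * f) * E.u) * negM g := by simp only [posM_mul, Matrix.mul_assoc]
        _ = negM ((g * E.ε) * g) - negM ((g * q)) * (posM (a * E.e) * E.u) * negM g := by
            rw [hff, hvfu, Matrix.mul_sub, Matrix.sub_mul]; simp only [negM_mul, Matrix.mul_assoc]
        _ = negM g := by rw [hgε, hgg, hgq, show negM (0 : Matrix ι Unit A[X]) = 0 from Matrix.map_zero _ (map_zero _),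
            Matrix.zero_mul, Matrix.zero_mul, sub_zero]
    hu := by rw [← Matrix.mul_assoc, ← posM_mul, hff]
    hv := by rw [← Matrix.mul_assoc, ← negM_mul, hgg] }, hf⟩

omit [IsLocalRing A] in
theorem twist_splitting {B : Type u} [CommRing B] (f : A →+* B) {r : ℕ} (V W : Matrix ι (Fin r) B[X]) (d : Fin r → ℤ)
    (c : ℤ) (hV : (E.map f).v * posM V = negM W * Matrix.diagonal (fun i => T (d i))) :
    ((E.twist c).map f).v * posM V = negM W * Matrix.diagonal (fun i => T (d i - c)) := by
  have h1 : ((E.twist c).map f).v = (T (-c) : B[T;T⁻¹]) • (E.map f).v := Matrix.ext fun i l => by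
    simp only [Bundle.map, Bundle.twist, Matrix.map_apply, Matrix.smul_apply, smul_eq_mul, map_mul, lmap_T]
  rw [h1, Matrix.smul_mul, hV, ← Matrix.mul_smul, ← Matrix.diagonal_smul]
  congr 2
  funext i
  rw [Pi.smul_apply, smul_eq_mul, ← T_add]
  congr 1
  ring

theorem finrank_lt {k : Type u} [Field k] (e f : Matrix ι ι k) (s : ι → k) (c : Matrix Unit ι k) (hef : e * f = f)
    (hes : e *ᵥ s = s) (hcf : c * f = 0) (hcs : c *ᵥ s = fun _ => 1) :
    Module.finrank k (LinearMap.range (Matrix.toLin' f)) < Module.finrank k (LinearMap.range (Matrix.toLin' e)) := by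
  refine Submodule.finrank_lt_finrank_of_lt (lt_of_le_not_ge ?_ fun hle => ?_)
  · rw [← hef, Matrix.toLin'_mul]
    exact LinearMap.range_comp_le_range _ _
  · obtain ⟨y, hy⟩ := hle (⟨s, hes⟩ : s ∈ LinearMap.range (Matrix.toLin' e))
    rw [← hy, Matrix.toLin'_apply, Matrix.mulVec_mulVec, hcf, Matrix.zero_mulVec] at hcs
    exact zero_ne_one (congrFun hcs ())

theorem reassemble {R : Type u} [CommRing R] {r : ℕ} (e f : Matrix ι ι R) (s : Matrix ι Unit R) (c : Matrix Unit ι R)
    (a' : Matrix ι (Fin r) R) (b' : Matrix (Fin r) ι R) (hf : f = e - s * c) (hab : a' * b' = f) (hba : b' * a' = 1)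
    (hcs : c * s = 1) (hcf : c * f = 0) (hfs : f * s = 0) :
    ∃ (a : Matrix ι (Fin (r + 1)) R) (b : Matrix (Fin (r + 1)) ι R), a * b = e ∧ b * a = 1 := by
  let σ : Fin (r + 1) ≃ Unit ⊕ Fin r := Fintype.equivOfCardEq (by simp [add_comm])
  have h1 : c * a' = 0 := by rw [← Matrix.mul_one a', ← hba, ← Matrix.mul_assoc, ← Matrix.mul_assoc,
    Matrix.mul_assoc c, hab, hcf, Matrix.zero_mul]
  have h2 : b' * s = 0 := by rw [← Matrix.one_mul b', ← hba, Matrix.mul_assoc b', hab, Matrix.mul_assoc, hfs,
    Matrix.mul_zero]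
  refine ⟨(Matrix.fromCols s a').submatrix id σ, (Matrix.fromRows c b').submatrix σ id, ?_, ?_⟩
  · rw [Matrix.submatrix_mul_equiv, Matrix.fromCols_mul_fromRows, hab, hf, add_sub_cancel, Matrix.submatrix_id_id]
  · rw [← Equiv.coe_refl, Matrix.submatrix_mul_equiv, Matrix.fromRows_mul_fromCols, hcs, h1, h2, hba,
      Matrix.fromBlocks_one, Matrix.submatrix_one_equiv]

theorem exists_free_step (s : Matrix ι Unit A[X]) (a : Matrix Unit ι A[X]) (f : Matrix ι ι A[X]) (hes : E.e * s = s)
    (hf : f = E.e - s * (a * E.e)) (ha : a * s = 1) :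
    a * E.e * f = 0 ∧ f * s = 0 ∧
    Module.finrank (ResidueField A) (LinearMap.range (Matrix.toLin'
      ((f.map (Polynomial.mapRingHom (residue A))).map (Polynomial.evalRingHom 0)))) <
    Module.finrank (ResidueField A) (LinearMap.range (Matrix.toLin'
      ((E.e.map (Polynomial.mapRingHom (residue A))).map (Polynomial.evalRingHom 0)))) := by
  have haes : a * E.e * s = 1 := by rw [Matrix.mul_assoc, hes, ha]
  have hfs : f * s = 0 := by
    rw [hf, Matrix.sub_mul, hes, Matrix.mul_assoc, haes, Matrix.mul_one, sub_self]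
  have haf : a * E.e * f = 0 := by
    rw [hf, Matrix.mul_sub, Matrix.mul_assoc a E.e E.e, E.he, ← Matrix.mul_assoc (a * E.e) s, haes, Matrix.one_mul,
      sub_self]
  have hef : E.e * f = f := by rw [hf, Matrix.mul_sub, E.he, ← Matrix.mul_assoc, hes]
  obtain ⟨ev, hev⟩ : ∃ ev : A[X] →+* ResidueField A,
      ev = (Polynomial.evalRingHom 0).comp (Polynomial.mapRingHom (residue A)) := ⟨_, rfl⟩
  have key : ∀ M : Matrix ι ι A[X],
      (M.map (Polynomial.mapRingHom (residue A))).map (Polynomial.evalRingHom 0) = M.map ev := fun M => by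
    rw [hev]; rfl
  rw [key, key]
  refine ⟨haf, hfs, finrank_lt _ _ (fun i => ev (s i ())) ((a * E.e).map ev) ?_ ?_ ?_ ?_⟩
  · rw [← Matrix.map_mul, hef]
  · funext i
    have h := congrFun (congrFun (congrArg (fun M => M.map ev) hes) i) ()
    rw [Matrix.map_mul] at h
    exact h
  · rw [← Matrix.map_mul, haf, Matrix.map_zero _ (map_zero _)]
  · funext o
    have h := congrFun (congrFun (congrArg (fun M => M.map ev) haes) o) ()
    rw [Matrix.map_mul, Matrix.map_one _ (map_zero _) (map_one _), Matrix.one_apply_eq] at h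
    exact h

theorem exists_free_aux : ∀ (n : ℕ) (E : Bundle A ι),
    Module.finrank (ResidueField A) (LinearMap.range (Matrix.toLin'
      ((E.e.map (Polynomial.mapRingHom (residue A))).map (Polynomial.evalRingHom 0)))) < n →
    ∃ (r : ℕ) (a : Matrix ι (Fin r) A[X]) (b : Matrix (Fin r) ι A[X]), a * b = E.e ∧ b * a = 1 := by
  intro n
  induction n with
  | zero => intro E h; exact absurd h (Nat.not_lt_zero _)
  | succ n ih =>
    intro E hn
    obtain ⟨r, V, W, φ, ψ, d, hVφ, hφV, hWψ, hψW, hV⟩ := exists_splitting (E.map (residue A))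
    cases r with
    | zero =>
      have h0 : E.e = 0 := matrix_idem_eq_zero E.e E.he (by
        refine Eq.trans hVφ.symm ?_
        ext i j : 2
        simp [Matrix.mul_apply])
      exact ⟨0, 0, 0, by rw [Matrix.zero_mul, h0], Subsingleton.elim _ _⟩
    | succ r =>
      obtain ⟨j, -, hj⟩ := Finset.exists_max_image Finset.univ d Finset.univ_nonempty
      obtain ⟨s, q, a, b, hes, hεq, hvs, ha, hb⟩ := exists_section (E.twist (d j)) V W φ ψ (fun i => d i - d j) j
        (sub_self _) (fun i => by have := hj i (Finset.mem_univ i); omega) hVφ hφV hWψ hψW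
        (twist_splitting E (residue A) V W d (d j) hV)
      obtain ⟨E', hE'⟩ := split_off (E.twist (d j)) hes hεq hvs ha hb
      obtain ⟨haf, hfs, hlt⟩ := exists_free_step E s a E'.e hes hE' ha
      obtain ⟨r', a', b', hab', hba'⟩ := ih E' (lt_of_lt_of_le hlt (Nat.lt_succ_iff.1 hn))
      obtain ⟨a₁, b₁, h₁, h₂⟩ := reassemble E.e E'.e s (a * E.e) a' b' hE' hab' hba'
        (by rw [Matrix.mul_assoc]; exact (congrArg (a * ·) hes).trans ha) haf hfs
      exact ⟨r' + 1, a₁, b₁, h₁, h₂⟩

/-- Horrocks: over a local ring the chart module of a bundle is free. -/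
theorem exists_free (E : Bundle A ι) :
    ∃ (r : ℕ) (a : Matrix ι (Fin r) A[X]) (b : Matrix (Fin r) ι A[X]), a * b = E.e ∧ b * a = 1 :=
  exists_free_aux _ E (Nat.lt_succ_self _)

end Groth.Agent.Horrocks
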