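import Groth.Agent.Horrocks.Patch
import Mathlib.LinearAlgebra.TensorProduct.Pi
import Mathlib.LinearAlgebra.TensorProduct.Tower
import Mathlib.RingTheory.Finiteness.Projective
import Mathlib.RingTheory.TensorProduct.Maps

/-! Finite projective modules as retracts given by idempotent matrices. -/

universe u v w

namespace Groth.Agent.Horrocks

open Matrix TensorProduct

variable {R : Type u} [CommRing R] {ι : Type} [Fintype ι] [DecidableEq ι]

/-- A presentation of a module as a retract with a given idempotent matrix. -/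
def IsRetractBy (M : Type v) [AddCommGroup M] [Module R M] (p : Matrix ι ι R) : Prop :=
  ∃ (i : M →ₗ[R] ι → R) (π : (ι → R) →ₗ[R] M), π ∘ₗ i = LinearMap.id ∧ i ∘ₗ π = Matrix.toLin' p

variable {M : Type v} [AddCommGroup M] [Module R M] {N : Type w} [AddCommGroup N] [Module R N]

theorem IsRetractBy.idem {p : Matrix ι ι R} (h : IsRetractBy M p) : p * p = p := by
  obtain ⟨i, π, h₁, h₂⟩ := h
  refine Matrix.toLin'.injective ?_
  rw [Matrix.toLin'_mul, ← h₂]
  refine LinearMap.ext fun x => ?_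
  show i (π (i (π x))) = i (π x)
  rw [← LinearMap.comp_apply π i, h₁, LinearMap.id_apply]

omit [DecidableEq ι] in
theorem exists_pair_retract (M : Type v) [AddCommGroup M] [Module R M] [Module.Finite R M] [Module.Projective R M]
    (N : Type w) [AddCommGroup N] [Module R N] [Module.Finite R N] [Module.Projective R N] :
    ∃ (n : ℕ) (p q : Matrix (Fin n) (Fin n) R), IsRetractBy M p ∧ IsRetractBy N q := by
  obtain ⟨a, f, g, -, -, hfg⟩ := Module.Finite.exists_comp_eq_id_of_projective R M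
  obtain ⟨b, f', g', -, -, hfg'⟩ := Module.Finite.exists_comp_eq_id_of_projective R N
  let eqv : (Fin (a + b) → R) ≃ₗ[R] (Fin a → R) × (Fin b → R) :=
    (LinearEquiv.funCongrLeft R R finSumFinEquiv).trans (LinearEquiv.sumArrowLequivProdArrow _ _ R R)
  let iM : M →ₗ[R] Fin (a + b) → R := eqv.symm.toLinearMap ∘ₗ LinearMap.inl R _ _ ∘ₗ g
  let πM : (Fin (a + b) → R) →ₗ[R] M := f ∘ₗ LinearMap.fst R _ _ ∘ₗ eqv.toLinearMap
  let iN : N →ₗ[R] Fin (a + b) → R := eqv.symm.toLinearMap ∘ₗ LinearMap.inr R _ _ ∘ₗ g'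
  let πN : (Fin (a + b) → R) →ₗ[R] N := f' ∘ₗ LinearMap.snd R _ _ ∘ₗ eqv.toLinearMap
  refine ⟨a + b, LinearMap.toMatrix' (iM ∘ₗ πM), LinearMap.toMatrix' (iN ∘ₗ πN),
    ⟨iM, πM, ?_, (Matrix.toLin'_toMatrix' _).symm⟩, ⟨iN, πN, ?_, (Matrix.toLin'_toMatrix' _).symm⟩⟩
  · refine LinearMap.ext fun x => ?_
    simpa [iM, πM] using LinearMap.congr_fun hfg x
  · refine LinearMap.ext fun x => ?_
    simpa [iN, πN] using LinearMap.congr_fun hfg' x

theorem IsRetractBy.equiv {p q : Matrix ι ι R} (hM : IsRetractBy M p) (hN : IsRetractBy N q) (h : MvN p q) :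
    Nonempty (M ≃ₗ[R] N) := by
  have hp := hM.idem
  have hq := hN.idem
  obtain ⟨i, π, hπi, hiπ⟩ := hM
  obtain ⟨i', π', hπi', hiπ'⟩ := hN
  obtain ⟨Y, Z, hYZ, hZY⟩ := h
  refine ⟨LinearEquiv.ofLinearMap (π' ∘ₗ Matrix.toLin' Z ∘ₗ i) (π ∘ₗ Matrix.toLin' Y ∘ₗ i') ?_ ?_⟩
  · calc _ = π' ∘ₗ (Matrix.toLin' Z ∘ₗ (i ∘ₗ π) ∘ₗ Matrix.toLin' Y) ∘ₗ i' := by simp only [LinearMap.comp_assoc]
      _ = π' ∘ₗ Matrix.toLin' (Z * p * Y) ∘ₗ i' := by rw [hiπ]; simp only [Matrix.toLin'_mul, LinearMap.comp_assoc]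
      _ = π' ∘ₗ Matrix.toLin' q ∘ₗ i' := by
        rw [← hYZ, ← Matrix.mul_assoc, hZY, Matrix.mul_assoc, hZY, hq]
      _ = LinearMap.id := by rw [← hiπ', ← LinearMap.comp_assoc, ← LinearMap.comp_assoc, hπi', LinearMap.id_comp, hπi']
  · calc _ = π ∘ₗ (Matrix.toLin' Y ∘ₗ (i' ∘ₗ π') ∘ₗ Matrix.toLin' Z) ∘ₗ i := by simp only [LinearMap.comp_assoc]
      _ = π ∘ₗ Matrix.toLin' (Y * q * Z) ∘ₗ i := by rw [hiπ']; simp only [Matrix.toLin'_mul, LinearMap.comp_assoc]
      _ = π ∘ₗ Matrix.toLin' p ∘ₗ i := by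
        rw [← hZY, ← Matrix.mul_assoc, hYZ, Matrix.mul_assoc, hYZ, hp]
      _ = LinearMap.id := by rw [← hiπ, ← LinearMap.comp_assoc, ← LinearMap.comp_assoc, hπi, LinearMap.id_comp, hπi]

theorem IsRetractBy.mvn {p q : Matrix ι ι R} (hM : IsRetractBy M p) (hN : IsRetractBy N q)
    (e : M ≃ₗ[R] N) : MvN p q := by
  obtain ⟨i, π, hπi, hiπ⟩ := hM
  obtain ⟨i', π', hπi', hiπ'⟩ := hN
  refine ⟨LinearMap.toMatrix' (i ∘ₗ e.symm.toLinearMap ∘ₗ π'), LinearMap.toMatrix' (i' ∘ₗ e.toLinearMap ∘ₗ π), ?_, ?_⟩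
  · refine Matrix.toLin'.injective ?_
    rw [Matrix.toLin'_mul, Matrix.toLin'_toMatrix', Matrix.toLin'_toMatrix', ← hiπ]
    refine LinearMap.ext fun x => ?_
    have := LinearMap.congr_fun hπi' (e (π x))
    simp only [LinearMap.comp_apply, LinearMap.id_apply] at this
    simp [this]
  · refine Matrix.toLin'.injective ?_
    rw [Matrix.toLin'_mul, Matrix.toLin'_toMatrix', Matrix.toLin'_toMatrix', ← hiπ']
    refine LinearMap.ext fun x => ?_
    have := LinearMap.congr_fun hπi (e.symm (π' x))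
    simp only [LinearMap.comp_apply, LinearMap.id_apply] at this
    simp [this]

variable (S : Type*) [CommRing S] [Algebra R S]

theorem IsRetractBy.baseChange {p : Matrix ι ι R} (hM : IsRetractBy M p) :
    IsRetractBy (S ⊗[R] M) (p.map (algebraMap R S)) := by
  obtain ⟨i, π, hπi, hiπ⟩ := hM
  let E : S ⊗[R] (ι → R) ≃ₗ[S] (ι → S) := TensorProduct.piScalarRight R S S ι
  refine ⟨E.toLinearMap ∘ₗ i.baseChange S, π.baseChange S ∘ₗ E.symm.toLinearMap, ?_, ?_⟩
  · refine LinearMap.ext fun x => ?_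
    simp only [LinearMap.comp_apply, LinearEquiv.coe_coe, LinearEquiv.symm_apply_apply, LinearMap.id_apply]
    rw [← LinearMap.comp_apply, ← LinearMap.baseChange_comp, hπi, LinearMap.baseChange_id, LinearMap.id_apply]
  · refine LinearMap.ext fun x => ?_
    obtain ⟨y, rfl⟩ := E.surjective x
    simp only [LinearMap.comp_apply, LinearEquiv.coe_coe, LinearEquiv.symm_apply_apply]
    rw [← LinearMap.comp_apply (i.baseChange S), ← LinearMap.baseChange_comp, hiπ]
    induction y using TensorProduct.induction_on with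
    | zero => simp
    | add a b ha hb => simp only [map_add, ha, hb]
    | tmul s v =>
      funext j
      simp only [E, LinearMap.baseChange_tmul, TensorProduct.piScalarRight_apply, TensorProduct.piScalarRightHom_tmul,
        Matrix.toLin'_apply, Matrix.mulVec, dotProduct, Matrix.map_apply, Finset.sum_smul, Algebra.smul_def, map_sum,
        map_mul, Finset.sum_mul]
      exact Finset.sum_congr rfl fun k _ => by ring

omit [DecidableEq ι] in
theorem MvN.normalized {R : Type u} [CommRing R] {p q : Matrix ι ι R} (h : MvN p q) (hp : p * p = p) (hq : q * q = q) :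
    ∃ Y Z : Matrix ι ι R, Y * Z = p ∧ Z * Y = q ∧ p * Y * q = Y ∧ q * Z * p = Z := by
  obtain ⟨Y, Z, hYZ, hZY⟩ := h
  refine ⟨p * Y * q, q * Z * p, ?_, ?_, ?_, ?_⟩
  · calc _ = p * Y * (q * q) * Z * p := by simp only [Matrix.mul_assoc]
      _ = p * (Y * Z * (Y * Z)) * p := by rw [hq, ← hZY]; simp only [Matrix.mul_assoc]
      _ = p := by rw [hYZ, hp, hp, hp]
  · calc _ = q * Z * (p * p) * Y * q := by simp only [Matrix.mul_assoc]
      _ = q * (Z * Y * (Z * Y)) * q := by rw [hp, ← hYZ]; simp only [Matrix.mul_assoc]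
      _ = q := by rw [hZY, hq, hq, hq]
  · simp only [Matrix.mul_assoc, hq]; rw [← Matrix.mul_assoc p p, hp]
  · simp only [Matrix.mul_assoc, hp]; rw [← Matrix.mul_assoc q q, hq]

end Groth.Agent.Horrocks
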