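import Groth.Agent.Horrocks.Local
import Mathlib.RingTheory.Localization.Integer
import Mathlib.RingTheory.Localization.AtPrime.Basic
import Mathlib.RingTheory.Ideal.Maximal

/-! Quillen patching for idempotent matrices over `A[X]`, and Horrocks' theorem over any ring. -/

universe u v

namespace Groth.Agent.Horrocks

open Polynomial Matrix

/-- Equivalence of idempotents. -/
def MvN {R : Type u} [CommRing R] {ι : Type} [Fintype ι] (p q : Matrix ι ι R) : Prop :=
  ∃ Y Z : Matrix ι ι R, Y * Z = p ∧ Z * Y = q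

namespace MvN

variable {R : Type u} [CommRing R] {ι : Type} [Fintype ι] {p q r : Matrix ι ι R}

theorem refl (hp : p * p = p) : MvN p p := ⟨p, p, hp, hp⟩

theorem symm (h : MvN p q) : MvN q p := by
  obtain ⟨Y, Z, h₁, h₂⟩ := h
  exact ⟨Z, Y, h₂, h₁⟩

theorem trans (h : MvN p q) (h' : MvN q r) (hp : p * p = p) (hr : r * r = r) : MvN p r := by
  obtain ⟨Y, Z, h₁, h₂⟩ := h
  obtain ⟨Y', Z', h₃, h₄⟩ := h'
  refine ⟨Y * Y', Z' * Z, ?_, ?_⟩
  · calc Y * Y' * (Z' * Z) = Y * (Y' * Z') * Z := by simp only [Matrix.mul_assoc]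
      _ = Y * Z * (Y * Z) := by rw [h₃, ← h₂]; simp only [Matrix.mul_assoc]
      _ = p := by rw [h₁, hp]
  · calc Z' * Z * (Y * Y') = Z' * (Z * Y) * Y' := by simp only [Matrix.mul_assoc]
      _ = Z' * Y' * (Z' * Y') := by rw [h₂, ← h₃]; simp only [Matrix.mul_assoc]
      _ = r := by rw [h₄, hr]

theorem map {S : Type v} [CommRing S] (h : MvN p q) (f : R →+* S) : MvN (p.map f) (q.map f) := by
  obtain ⟨Y, Z, h₁, h₂⟩ := h
  exact ⟨Y.map f, Z.map f, by rw [← Matrix.map_mul, h₁], by rw [← Matrix.map_mul, h₂]⟩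

end MvN

theorem map_map_hom {R S T : Type u} [CommRing R] [CommRing S] [CommRing T] {ι κ : Type} (M : Matrix ι κ R)
    (f : R →+* S) (g : S →+* T) : (M.map f).map g = M.map (g.comp f) := rfl

variable {A : Type u} [CommRing A] {B : Type u} [CommRing B]

/-- The substitution `x ↦ x + a y`. -/
noncomputable def sh (a : A) : A[X] →+* A[X][X] :=
  Polynomial.eval₂RingHom (Polynomial.C.comp Polynomial.C)
    (Polynomial.C Polynomial.X + Polynomial.C (Polynomial.C a) * Polynomial.X)

/-- The substitution `y ↦ c y`. -/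
noncomputable def scale (c : A) : A[X][X] →+* A[X][X] :=
  Polynomial.eval₂RingHom Polynomial.C (Polynomial.C (Polynomial.C c) * Polynomial.X)

theorem sh_C (a b : A) : sh a (Polynomial.C b) = Polynomial.C (Polynomial.C b) := by
  simp [sh, Polynomial.coe_eval₂RingHom]

theorem sh_X (a : A) :
    sh a Polynomial.X = Polynomial.C Polynomial.X + Polynomial.C (Polynomial.C a) * Polynomial.X := by
  simp [sh, Polynomial.coe_eval₂RingHom]

theorem sh_zero : sh (0 : A) = Polynomial.C :=
  Polynomial.ringHom_ext (fun b => sh_C _ b) (by simp [sh_X])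

theorem scale_comp_C (c : A) : (scale c).comp Polynomial.C = Polynomial.C :=
  RingHom.ext fun p => by simp [scale, Polynomial.coe_eval₂RingHom]

theorem scale_comp_sh (c a : A) : (scale c).comp (sh a) = sh (a * c) :=
  Polynomial.ringHom_ext (fun b => by simp [sh, scale, Polynomial.coe_eval₂RingHom])
    (by simp [sh, scale, Polynomial.coe_eval₂RingHom, mul_assoc])

theorem coeff_scale (c : A) (F : A[X][X]) (n : ℕ) : (scale c F).coeff n = Polynomial.C (c ^ n) * F.coeff n := by
  induction F using Polynomial.induction_on' with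
  | add p q hp hq => simp [hp, hq, mul_add]
  | monomial k r =>
    simp only [scale, Polynomial.coe_eval₂RingHom, Polynomial.eval₂_monomial]
    rw [mul_pow, ← map_pow, ← map_pow, ← mul_assoc, ← map_mul, Polynomial.coeff_C_mul_X_pow, Polynomial.coeff_monomial]
    by_cases h : n = k
    · subst h; simp [mul_comm]
    · simp [h, Ne.symm h]

theorem comp_map_C (f : A →+* B) :
    (Polynomial.mapRingHom (Polynomial.mapRingHom f)).comp (Polynomial.C : A[X] →+* A[X][X]) =
      (Polynomial.C).comp (Polynomial.mapRingHom f) :=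
  RingHom.ext fun p => by simp

theorem map_comp_sh (f : A →+* B) (a : A) :
    (Polynomial.mapRingHom (Polynomial.mapRingHom f)).comp (sh a) = (sh (f a)).comp (Polynomial.mapRingHom f) :=
  Polynomial.ringHom_ext (fun b => by simp [sh, Polynomial.coe_eval₂RingHom])
    (by simp [sh, Polynomial.coe_eval₂RingHom])

variable {ι : Type} [Fintype ι]

/-- The elements `a` with `e(x) ~ e(x + a y)`. -/
noncomputable def shiftIdeal (e : Matrix ι ι A[X]) (he : e * e = e) : Ideal A where
  carrier := {a | MvN (e.map (Polynomial.C : A[X] →+* A[X][X])) (e.map (sh a))}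
  zero_mem' := by
    show MvN _ _
    rw [sh_zero]
    exact MvN.refl (by rw [← Matrix.map_mul, he])
  add_mem' := by
    intro a b ha hb
    let g : A[X][X] →+* A[X][X] := Polynomial.eval₂RingHom (sh a) Polynomial.X
    have h1 : g.comp Polynomial.C = sh a := RingHom.ext fun p => by simp [g, Polynomial.coe_eval₂RingHom]
    have h2 : g.comp (sh b) = sh (a + b) := by
      refine Polynomial.ringHom_ext (fun c => ?_) ?_
      · simp [g, sh, Polynomial.coe_eval₂RingHom]
      · simp only [RingHom.comp_apply, sh_X, map_add, map_mul, g, Polynomial.coe_eval₂RingHom, Polynomial.eval₂_C,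
          Polynomial.eval₂_X, Polynomial.eval₂_add, Polynomial.eval₂_mul, sh_C]
        ring
    have hb' := MvN.map hb g
    rw [map_map_hom, map_map_hom, h1, h2] at hb'
    exact MvN.trans ha hb' (by rw [← Matrix.map_mul, he]) (by rw [← Matrix.map_mul, he])
  smul_mem' := by
    intro c a ha
    have h := MvN.map ha (scale c)
    rw [map_map_hom, map_map_hom, scale_comp_C, scale_comp_sh] at h
    show MvN _ _
    rwa [smul_eq_mul, mul_comm]

section Localization

variable [Algebra A B] (S : Submonoid A) [IsLocalization S B]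

local notation "Φ" => Polynomial.mapRingHom (Polynomial.mapRingHom (algebraMap A B))

theorem exists_scale_lift {κ : Type} [Fintype κ] (F : κ → B[X][X]) (r : κ → A[X])
    (h : ∀ i, (F i).coeff 0 = (r i).map (algebraMap A B)) :
    ∃ s ∈ S, ∃ G : κ → A[X][X], ∀ i, (G i).coeff 0 = r i ∧ Φ (G i) = scale (algebraMap A B s) (F i) := by
  let N : ℕ := Finset.univ.sup fun i => (F i).natDegree
  let M : ℕ := Finset.univ.sup fun i => (Finset.range (N + 1)).sup fun n => ((F i).coeff n).natDegree
  obtain ⟨⟨s, hs⟩, hint⟩ := IsLocalization.exist_integer_multiples_of_finite S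
    (fun q : κ × Fin (N + 1) × Fin (M + 1) => ((F q.1).coeff q.2.1).coeff q.2.2)
  have hlift : ∀ i, ∀ n, ∃ p : A[X], p.map (algebraMap A B) = Polynomial.C (algebraMap A B s) * (F i).coeff n := by
    intro i n
    refine Polynomial.mem_lifts _ |>.1 ?_
    rw [Polynomial.lifts_iff_coeff_lifts]
    intro k
    rw [Polynomial.coeff_C_mul]
    by_cases hn : n ≤ N
    · by_cases hk : k ≤ M
      · obtain ⟨x, hx⟩ := hint (i, ⟨n, Nat.lt_succ_iff.2 hn⟩, ⟨k, Nat.lt_succ_iff.2 hk⟩)
        exact ⟨x, hx.trans (Algebra.smul_def _ _)⟩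
      · refine ⟨0, ?_⟩
        rw [map_zero, Polynomial.coeff_eq_zero_of_natDegree_lt, mul_zero]
        refine lt_of_le_of_lt ?_ (not_le.1 hk)
        exact le_trans (Finset.le_sup (f := fun n => ((F i).coeff n).natDegree) (Finset.mem_range.2 (Nat.lt_succ_iff.2 hn)))
          (Finset.le_sup (f := fun i => (Finset.range (N + 1)).sup fun n => ((F i).coeff n).natDegree) (Finset.mem_univ i))
    · refine ⟨0, ?_⟩
      rw [map_zero, Polynomial.coeff_eq_zero_of_natDegree_lt (p := F i), Polynomial.coeff_zero, mul_zero]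
      exact lt_of_le_of_lt (Finset.le_sup (f := fun i => (F i).natDegree) (Finset.mem_univ i)) (not_le.1 hn)
  choose p hp using hlift
  refine ⟨s, hs, fun i => Polynomial.C (r i) + ∑ n ∈ Finset.range N,
    Polynomial.C (Polynomial.C (s ^ n) * p i (n + 1)) * Polynomial.X ^ (n + 1), fun i => ⟨?_, ?_⟩⟩
  · simp [Polynomial.coeff_C_mul_X_pow]
  · refine Polynomial.ext fun n => ?_
    rw [coeff_scale, Polynomial.coe_mapRingHom, Polynomial.coeff_map, Polynomial.coeff_add, Polynomial.finsetSum_coeff]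
    simp only [Polynomial.coeff_C_mul_X_pow]
    rcases n with - | n
    · rw [h i]; simp
    · rw [Polynomial.coeff_C_succ, zero_add]
      simp only [Nat.succ_inj, Finset.sum_ite_eq, Finset.mem_range]
      split
      · rw [Polynomial.coe_mapRingHom, Polynomial.map_mul, Polynomial.map_C, hp, ← mul_assoc, ← map_mul, map_pow, pow_succ]
      · rw [map_zero, Polynomial.coeff_eq_zero_of_natDegree_lt (p := F i), mul_zero]
        refine lt_of_le_of_lt (Finset.le_sup (f := fun i => (F i).natDegree) (Finset.mem_univ i)) ?_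
        omega

include S in
theorem exists_scale_kill {κ : Type} [Fintype κ] (G : κ → A[X][X]) (h0 : ∀ i, (G i).coeff 0 = 0)
    (h : ∀ i, Φ (G i) = 0) : ∃ s ∈ S, ∀ i, scale s (G i) = 0 := by
  classical
  have hker : ∀ x : A, algebraMap A B x = 0 → ∃ s ∈ S, s * x = 0 := fun x hx => by
    obtain ⟨⟨s, hs⟩, hsx⟩ := (IsLocalization.map_eq_zero_iff S B x).1 hx
    exact ⟨s, hs, hsx⟩
  choose f hfS hf using hker
  let fin : Finset A := Finset.univ.biUnion fun i => (G i).support.biUnion fun n =>
    ((G i).coeff n).support.image fun k => ((G i).coeff n).coeff k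
  have hmem : ∀ i n k, algebraMap A B (((G i).coeff n).coeff k) = 0 := fun i n k => by
    simpa [Polynomial.coeff_map] using congrArg (fun p => (p.coeff n).coeff k) (h i)
  refine ⟨∏ x ∈ fin, if hx : algebraMap A B x = 0 then f x hx else 1, ?_, fun i => ?_⟩
  · refine S.prod_mem fun x _ => ?_
    split
    · exact hfS _ _
    · exact S.one_mem
  refine Polynomial.ext fun n => Polynomial.ext fun k => ?_
  rw [coeff_scale, Polynomial.coeff_C_mul, Polynomial.coeff_zero, Polynomial.coeff_zero]
  rcases n with - | n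
  · rw [h0 i]; simp
  by_cases hz : ((G i).coeff (n + 1)).coeff k = 0
  · rw [hz, mul_zero]
  have hx : ((G i).coeff (n + 1)).coeff k ∈ fin := by
    simp only [fin, Finset.mem_biUnion, Finset.mem_image, Polynomial.mem_support_iff, Finset.mem_univ, true_and]
    exact ⟨i, n + 1, fun h => hz (by rw [h, Polynomial.coeff_zero]), k, hz, rfl⟩
  rw [pow_succ, mul_assoc, ← Finset.mul_prod_erase fin _ hx, dif_pos (hmem i (n + 1) k),
    mul_right_comm (f _ _), hf, zero_mul, mul_zero]

theorem exists_mem_shiftIdeal (e : Matrix ι ι A[X]) (he : e * e = e) (c : Matrix ι ι B)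
    (h : MvN (e.map (Polynomial.mapRingHom (algebraMap A B))) (c.map Polynomial.C)) :
    ∃ s ∈ S, s ∈ shiftIdeal e he := by
  classical
  obtain ⟨φ, hφ⟩ : ∃ φ, φ = Polynomial.mapRingHom (algebraMap A B) := ⟨_, rfl⟩
  rw [← hφ] at h
  obtain ⟨Y, Z, hYZ, hZY⟩ := h
  obtain ⟨Y', hY'⟩ : ∃ Y', Y' = Y.map (Polynomial.C : B[X] →+* B[X][X]) * Z.map (sh 1) := ⟨_, rfl⟩
  obtain ⟨Z', hZ'⟩ : ∃ Z', Z' = Y.map (sh 1) * Z.map (Polynomial.C : B[X] →+* B[X][X]) := ⟨_, rfl⟩
  have hc : (c.map (Polynomial.C : B →+* B[X])).map (sh (1 : B)) = (c.map Polynomial.C).map (Polynomial.C : B[X] →+* B[X][X]) := by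
    rw [map_map_hom, map_map_hom, show (sh (1 : B)).comp Polynomial.C = Polynomial.C.comp Polynomial.C from
      RingHom.ext fun b => sh_C _ b]
  have hcc : (c.map (Polynomial.C : B →+* B[X])) * c.map Polynomial.C = Z * (e.map φ) * Y := by
    rw [← hYZ, ← hZY]; simp only [Matrix.mul_assoc]
  have hee : e.map φ * e.map φ = e.map φ := by rw [← Matrix.map_mul, he]
  have key : ∀ f g : B[X] →+* B[X][X], Z.map f * Y.map f = Z.map g * Y.map g →
      Y.map f * Z.map g * (Y.map g * Z.map f) = (e.map φ).map f := by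
    intro f g hfg
    calc _ = Y.map f * (Z.map g * Y.map g) * Z.map f := by simp only [Matrix.mul_assoc]
      _ = (Y * Z * (Y * Z)).map f := by rw [← hfg]; simp only [Matrix.map_mul, Matrix.mul_assoc]
      _ = (e.map φ).map f := by rw [hYZ, hee]
  have hfg : Z.map (sh (1 : B)) * Y.map (sh 1) = Z.map (Polynomial.C : B[X] →+* B[X][X]) * Y.map Polynomial.C := by
    rw [← Matrix.map_mul, ← Matrix.map_mul, hZY, hc]
  have h1 : Y' * Z' = (e.map φ).map (Polynomial.C : B[X] →+* B[X][X]) := hY' ▸ hZ' ▸ key _ _ hfg.symm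
  have h2 : Z' * Y' = (e.map φ).map (sh 1) := hY' ▸ hZ' ▸ key _ _ hfg
  obtain ⟨ev, hev⟩ : ∃ ev : B[X][X] →+* B[X], ev = Polynomial.evalRingHom 0 := ⟨_, rfl⟩
  have hev1 : ev.comp Polynomial.C = RingHom.id _ := RingHom.ext fun p => by simp [hev]
  have hev2 : ev.comp (sh 1) = RingHom.id _ := Polynomial.ringHom_ext (fun b => by simp [hev, sh_C]) (by simp [hev, sh_X])
  have hY0 : Y'.map ev = e.map φ := by
    rw [hY', Matrix.map_mul, map_map_hom, map_map_hom, hev1, hev2]; exact hYZ
  have hZ0 : Z'.map ev = e.map φ := by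
    rw [hZ', Matrix.map_mul, map_map_hom, map_map_hom, hev1, hev2]; exact hYZ
  obtain ⟨s, hs, G, hG⟩ := exists_scale_lift S (Sum.elim (fun q : ι × ι => Y' q.1 q.2) (fun q : ι × ι => Z' q.1 q.2))
    (Sum.elim (fun q : ι × ι => e q.1 q.2) (fun q : ι × ι => e q.1 q.2)) (by
      rintro (⟨i, j⟩ | ⟨i, j⟩)
      · have := congrFun (congrFun hY0 i) j
        simp only [Matrix.map_apply, hev, Polynomial.coe_evalRingHom, hφ, Polynomial.coe_mapRingHom] at this
        rw [Polynomial.coeff_zero_eq_eval_zero]; exact this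
      · have := congrFun (congrFun hZ0 i) j
        simp only [Matrix.map_apply, hev, Polynomial.coe_evalRingHom, hφ, Polynomial.coe_mapRingHom] at this
        rw [Polynomial.coeff_zero_eq_eval_zero]; exact this)
  let Yt : Matrix ι ι A[X][X] := Matrix.of fun i j => G (Sum.inl (i, j))
  let Zt : Matrix ι ι A[X][X] := Matrix.of fun i j => G (Sum.inr (i, j))
  obtain ⟨ψ, hψ⟩ : ∃ ψ, ψ = Polynomial.mapRingHom (Polynomial.mapRingHom (algebraMap A B)) := ⟨_, rfl⟩
  have hYt : Yt.map ψ = Y'.map (scale (algebraMap A B s)) := Matrix.ext fun i j => hψ ▸ (hG (Sum.inl (i, j))).2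
  have hZt : Zt.map ψ = Z'.map (scale (algebraMap A B s)) := Matrix.ext fun i j => hψ ▸ (hG (Sum.inr (i, j))).2
  obtain ⟨ev', hev'⟩ : ∃ ev : A[X][X] →+* A[X], ev = Polynomial.evalRingHom 0 := ⟨_, rfl⟩
  have hYt0 : Yt.map ev' = e := Matrix.ext fun i j => by
    rw [hev']; exact (Polynomial.coeff_zero_eq_eval_zero _).symm.trans (hG (Sum.inl (i, j))).1
  have hZt0 : Zt.map ev' = e := Matrix.ext fun i j => by
    rw [hev']; exact (Polynomial.coeff_zero_eq_eval_zero _).symm.trans (hG (Sum.inr (i, j))).1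
  let D1 := Yt * Zt - e.map (Polynomial.C : A[X] →+* A[X][X])
  let D2 := Zt * Yt - e.map (sh s)
  have hD1 : D1.map ψ = 0 := by
    show (Yt * Zt - _).map ψ = 0
    rw [Matrix.map_sub _ (map_sub _), Matrix.map_mul, hYt, hZt, ← Matrix.map_mul, h1, map_map_hom, map_map_hom,
      map_map_hom, scale_comp_C, hψ, comp_map_C, hφ, sub_self]
  have hD2 : D2.map ψ = 0 := by
    show (Zt * Yt - _).map ψ = 0
    rw [Matrix.map_sub _ (map_sub _), Matrix.map_mul, hYt, hZt, ← Matrix.map_mul, h2, map_map_hom, map_map_hom,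
      map_map_hom, scale_comp_sh, hψ, map_comp_sh, one_mul, hφ, sub_self]
  have hD10 : D1.map ev' = 0 := by
    show (Yt * Zt - _).map ev' = 0
    rw [Matrix.map_sub _ (map_sub _), Matrix.map_mul, hYt0, hZt0, he, map_map_hom,
      show ev'.comp Polynomial.C = RingHom.id _ from RingHom.ext fun p => by simp [hev']]
    exact sub_self _
  have hD20 : D2.map ev' = 0 := by
    show (Zt * Yt - _).map ev' = 0
    rw [Matrix.map_sub _ (map_sub _), Matrix.map_mul, hYt0, hZt0, he, map_map_hom,
      show ev'.comp (sh s) = RingHom.id _ from Polynomial.ringHom_ext (fun b => by simp [hev', sh_C]) (by simp [hev', sh_X])]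
    exact sub_self _
  obtain ⟨t, ht, hkill⟩ := exists_scale_kill (B := B) S
    (Sum.elim (fun q : ι × ι => D1 q.1 q.2) (fun q : ι × ι => D2 q.1 q.2)) (by
      rintro (⟨i, j⟩ | ⟨i, j⟩)
      · have h := congrFun (congrFun hD10 i) j
        rw [hev'] at h
        exact (Polynomial.coeff_zero_eq_eval_zero _).trans h
      · have h := congrFun (congrFun hD20 i) j
        rw [hev'] at h
        exact (Polynomial.coeff_zero_eq_eval_zero _).trans h) (by
      rintro (⟨i, j⟩ | ⟨i, j⟩)
      · exact hψ ▸ congrFun (congrFun hD1 i) j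
      · exact hψ ▸ congrFun (congrFun hD2 i) j)
  refine ⟨s * t, S.mul_mem hs ht, Yt.map (scale t), Zt.map (scale t), ?_, ?_⟩
  · have h : D1.map (scale t) = 0 := Matrix.ext fun i j => hkill (Sum.inl (i, j))
    rw [← Matrix.map_mul]
    rw [Matrix.map_sub _ (map_sub _), sub_eq_zero, map_map_hom, scale_comp_C] at h
    exact h
  · have h : D2.map (scale t) = 0 := Matrix.ext fun i j => hkill (Sum.inr (i, j))
    rw [← Matrix.map_mul]
    rw [Matrix.map_sub _ (map_sub _), sub_eq_zero, map_map_hom, scale_comp_sh] at h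
    exact h

end Localization

/-- Horrocks' theorem: the chart of a vector bundle on the projective line is extended. -/
theorem Bundle.mvn_eval_zero [DecidableEq ι] (E : Bundle A ι) :
    MvN E.e ((E.e.map (Polynomial.evalRingHom 0)).map Polynomial.C) := by
  have h1 : (1 : A) ∈ shiftIdeal E.e E.he := by
    by_contra h
    obtain ⟨m, hm, hle⟩ := Ideal.exists_le_maximal _ (mt (Ideal.eq_top_iff_one _).1 h)
    obtain ⟨r, a, b, hab, hba⟩ := exists_free (E.map (algebraMap A (Localization.AtPrime m)))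
    let ev : (Localization.AtPrime m)[X] →+* Localization.AtPrime m := Polynomial.evalRingHom 0
    let a0 := (a.map ev).map (Polynomial.C : Localization.AtPrime m →+* _)
    let b0 := (b.map ev).map (Polynomial.C : Localization.AtPrime m →+* _)
    have hba0 : b0 * a0 = 1 := by
      rw [← Matrix.map_mul, ← Matrix.map_mul, hba, Matrix.map_one _ (map_zero _) (map_one _),
        Matrix.map_one _ (map_zero _) (map_one _)]
    obtain ⟨s, hs, hsI⟩ := exists_mem_shiftIdeal (B := Localization.AtPrime m) m.primeCompl E.e E.he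
      ((a * b).map ev) ⟨a * b0, a0 * b, by
        rw [Matrix.mul_assoc, ← Matrix.mul_assoc b0, hba0, Matrix.one_mul]; exact hab, by
        rw [Matrix.mul_assoc, ← Matrix.mul_assoc b, hba, Matrix.one_mul, ← Matrix.map_mul, ← Matrix.map_mul]⟩
    exact hs (hle hsI)
  obtain ⟨g, hg⟩ : ∃ g : A[X][X] →+* A[X],
      g = Polynomial.eval₂RingHom ((Polynomial.C).comp (Polynomial.evalRingHom 0)) Polynomial.X := ⟨_, rfl⟩
  have h := MvN.map h1 g
  rw [map_map_hom, map_map_hom, show g.comp (sh 1) = RingHom.id _ from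
      Polynomial.ringHom_ext (fun b => by simp [hg, sh, Polynomial.coe_eval₂RingHom])
        (by simp [hg, sh, Polynomial.coe_eval₂RingHom]),
    show g.comp Polynomial.C = (Polynomial.C).comp (Polynomial.evalRingHom 0) from
      RingHom.ext fun p => by simp [hg, Polynomial.coe_eval₂RingHom]] at h
  exact h.symm

end Groth.Agent.Horrocks
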